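import Groth.Prelude.Def_W4bk5brsh7111920
import Mathlib.Topology.NoetherianSpace
import Mathlib.Topology.Connected.Basic

/-!
# Connectedness dimension and subdimension of a topological space
-/

set_option autoImplicit false

universe u

open TopologicalSpace Set

namespace Groth.Agent.H4Conn

variable {T : Type u} [TopologicalSpace T]

theorem connDim_le {Z : Set T} (hZ : IsClosed Z) (h : ¬ IsConnected Zᶜ) :
    LocCoh.connDim T ≤ topologicalKrullDim Z :=
  iInf₂_le Z ⟨hZ, h⟩

theorem subdim_le {C : Set T} (hC : C ∈ irreducibleComponents T) :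
    LocCoh.subdim T ≤ topologicalKrullDim C :=
  iInf₂_le C hC

theorem topologicalKrullDim_univ : topologicalKrullDim (univ : Set T) = topologicalKrullDim T :=
  IsHomeomorph.topologicalKrullDim_eq _ (Homeomorph.Set.univ T).isHomeomorph

theorem topologicalKrullDim_mono {A B : Set T} (h : A ⊆ B) :
    topologicalKrullDim A ≤ topologicalKrullDim B :=
  (Topology.IsEmbedding.inclusion h).isInducing.topologicalKrullDim_le

theorem connDim_le_dim : LocCoh.connDim T ≤ topologicalKrullDim T := by
  refine (connDim_le isClosed_univ ?_).trans topologicalKrullDim_univ.le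
  rw [compl_univ]
  exact fun h => h.nonempty.ne_empty rfl

/-- Two closed proper subsets covering the space disconnect it along their intersection. -/
theorem not_isConnected_compl_inter {F₁ F₂ : Set T} (h₁ : IsClosed F₁) (h₂ : IsClosed F₂)
    (hu : F₁ ∪ F₂ = univ) (n₁ : F₁ ≠ univ) (n₂ : F₂ ≠ univ) : ¬ IsConnected (F₁ ∩ F₂)ᶜ := by
  intro h
  obtain ⟨x, hx⟩ := (ne_univ_iff_exists_notMem _).1 n₁
  obtain ⟨y, hy⟩ := (ne_univ_iff_exists_notMem _).1 n₂
  obtain ⟨z, -, hz1, hz2⟩ := h.isPreconnected F₁ᶜ F₂ᶜ h₁.isOpen_compl h₂.isOpen_compl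
    (by rw [compl_inter]) ⟨x, fun hh => hx hh.1, hx⟩ ⟨y, fun hh => hy hh.2, hy⟩
  exact ((hu.symm ▸ mem_univ z : z ∈ F₁ ∪ F₂)).elim hz1 hz2

/-- A closed subset with disconnected complement is the whole space or an intersection of two closed
proper subsets covering the space. -/
theorem exists_split {Z : Set T} (hZ : IsClosed Z) (h : ¬ IsConnected Zᶜ) :
    Z = univ ∨ ∃ F₁ F₂ : Set T, IsClosed F₁ ∧ IsClosed F₂ ∧ F₁ ∪ F₂ = univ ∧ F₁ ∩ F₂ = Z ∧
      F₁ ≠ univ ∧ F₂ ≠ univ := by
  by_cases hne : Zᶜ.Nonempty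
  swap
  · exact Or.inl (by rwa [not_nonempty_iff_eq_empty, compl_empty_iff] at hne)
  right
  have h' : ¬ IsPreconnected Zᶜ := fun hp => h ⟨hne, hp⟩
  rw [IsPreconnected] at h'
  push Not at h'
  obtain ⟨U, V, hU, hV, hUV, ⟨x, hxZ, hxU⟩, ⟨y, hyZ, hyV⟩, hempty⟩ := h'
  refine ⟨(U ∩ Zᶜ)ᶜ, (V ∩ Zᶜ)ᶜ, (hU.inter hZ.isOpen_compl).isClosed_compl,
    (hV.inter hZ.isOpen_compl).isClosed_compl, ?_, ?_, fun he => ?_, fun he => ?_⟩
  · rw [← compl_inter, compl_eq_comm, compl_univ, eq_comm, eq_empty_iff_forall_notMem]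
    intro z hz
    have : z ∈ Zᶜ ∩ (U ∩ V) := ⟨hz.1.2, hz.1.1, hz.2.1⟩
    rw [hempty] at this
    exact this
  · rw [← compl_union, ← union_inter_distrib_right, inter_eq_right.2 hUV, compl_compl]
  · exact (he.symm ▸ mem_univ x : x ∈ (U ∩ Zᶜ)ᶜ) ⟨hxU, hxZ⟩
  · exact (he.symm ▸ mem_univ y : y ∈ (V ∩ Zᶜ)ᶜ) ⟨hyV, hyZ⟩

theorem exists_connDim (T : Type u) [TopologicalSpace T] : ∃ Z : Set T, IsClosed Z ∧ ¬ IsConnected Zᶜ ∧
    LocCoh.connDim T = topologicalKrullDim Z := by
  have hne : ((fun Z : Set T => topologicalKrullDim Z) '' {Z | IsClosed Z ∧ ¬ IsConnected Zᶜ}).Nonempty :=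
    ⟨_, univ, ⟨isClosed_univ, by rw [compl_univ]; exact fun h => h.nonempty.ne_empty rfl⟩, rfl⟩
  obtain ⟨Z, hZ, hZ'⟩ := csInf_mem hne
  refine ⟨Z, hZ.1, hZ.2, ?_⟩
  rw [sInf_image] at hZ'
  exact hZ'.symm

theorem exists_component_superset {S : Set T} (hS : IsIrreducible S) :
    ∃ C ∈ irreducibleComponents T, S ⊆ C := by
  obtain ⟨u, hu, hsu, hmax⟩ := exists_preirreducible S hS.isPreirreducible
  exact ⟨u, ⟨⟨hS.nonempty.mono hsu, hu⟩, fun v hv huv => (hmax v hv.isPreirreducible huv).le⟩, hsu⟩

theorem irreducible_univ_of_component {C : Set T} (h : C = univ) (hC : C ∈ irreducibleComponents T) :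
    IrreducibleSpace T :=
  (irreducibleSpace_def T).2 (by have := hC.1; rw [h] at this; exact this)

/-- A proper closed subset of an irreducible space of finite dimension has smaller dimension. -/
theorem topologicalKrullDim_add_one_le {X : Type u} [TopologicalSpace X] [IrreducibleSpace X] {F : Set X}
    (hF : IsClosed F) (hne : F ≠ univ) : topologicalKrullDim F + 1 ≤ topologicalKrullDim X := by
  let top : IrreducibleCloseds X := ⟨univ, IrreducibleSpace.isIrreducible_univ X, isClosed_univ⟩
  have hlt : ∀ S : IrreducibleCloseds F, IrreducibleCloseds.map (Subtype.val : F → X) continuous_subtype_val S < top := by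
    intro S
    refine lt_of_le_of_ne (fun x _ => mem_univ x) fun he => hne (univ_subset_iff.1 ?_)
    have h1 : closure (Subtype.val '' (S : Set F)) = (univ : Set X) := congrArg (fun t : IrreducibleCloseds X => (t : Set X)) he
    rw [← h1]
    exact closure_minimal (by rintro _ ⟨x, -, rfl⟩; exact x.2) hF
  rcases isEmpty_or_nonempty (IrreducibleCloseds F) with h | h
  · rw [topologicalKrullDim, Order.krullDim_eq_bot, WithBot.bot_add]
    exact bot_le
  rw [topologicalKrullDim, topologicalKrullDim, Order.krullDim_eq_iSup_length, ← WithBot.coe_one,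
    ← WithBot.coe_add, ENat.iSup_add]
  haveI : Nonempty (IrreducibleCloseds X) := ⟨top⟩
  refine le_trans ?_ (le_of_eq (Order.krullDim_eq_iSup_length (α := IrreducibleCloseds X)).symm)
  refine WithBot.coe_le_coe.2 (iSup_le fun l => ?_)
  refine le_trans ?_ (le_iSup (fun l : LTSeries (IrreducibleCloseds X) => (l.length : ℕ∞))
    ((l.map _ (IrreducibleCloseds.map_strictMono_of_isInducing Topology.IsInducing.subtypeVal)).snoc top
      (hlt l.last)))
  simp

variable [NoetherianSpace T]

/-- The union of the components other than `C`. -/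
theorem isClosed_others (C : Set T) : IsClosed (⋃₀ (irreducibleComponents T \ {C})) := by
  rw [sUnion_eq_biUnion]
  exact (NoetherianSpace.finite_irreducibleComponents.sdiff).isClosed_biUnion fun Z hZ =>
    isClosed_of_mem_irreducibleComponents Z hZ.1

theorem isClosed_sUnion_components {A : Set (Set T)} (hA : A ⊆ irreducibleComponents T) : IsClosed (⋃₀ A) := by
  rw [sUnion_eq_biUnion]
  exact (NoetherianSpace.finite_irreducibleComponents.subset hA).isClosed_biUnion fun Z hZ =>
    isClosed_of_mem_irreducibleComponents Z (hA hZ)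

theorem not_subset_sUnion {C : Set T} (hC : C ∈ irreducibleComponents T) {A : Set (Set T)}
    (hA : A ⊆ irreducibleComponents T) (h : C ∉ A) : ¬ C ⊆ ⋃₀ A := fun hsub => by
  classical
  have hf := NoetherianSpace.finite_irreducibleComponents.subset hA
  obtain ⟨Z, hZ, hCZ⟩ := isIrreducible_iff_sUnion_isClosed.1 hC.1 hf.toFinset
    (fun z hz => isClosed_of_mem_irreducibleComponents z (hA (hf.mem_toFinset.1 hz)))
    (by rwa [hf.coe_toFinset])
  rw [hf.mem_toFinset] at hZ
  exact h ((subset_antisymm hCZ (hC.2 (hA hZ).1 hCZ)) ▸ hZ)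

/-- In a reducible space the connectedness dimension is smaller than the dimension of each component. -/
theorem connDim_add_one_le {C : Set T} (hC : C ∈ irreducibleComponents T) (hne : C ≠ univ) :
    LocCoh.connDim T + 1 ≤ topologicalKrullDim C := by
  let O := ⋃₀ (irreducibleComponents T \ {C})
  have hu : C ∪ O = univ := by
    rw [← sUnion_irreducibleComponents]
    refine subset_antisymm (union_subset (subset_sUnion_of_mem hC) (sUnion_subset_sUnion sdiff_subset)) ?_
    rintro x ⟨Z, hZ, hxZ⟩
    by_cases h : Z = C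
    · exact Or.inl (h ▸ hxZ)
    · exact Or.inr ⟨Z, ⟨hZ, h⟩, hxZ⟩
  have hCO : ¬ C ⊆ O := not_subset_sUnion hC sdiff_subset (fun h => h.2 rfl)
  have hcl := isClosed_of_mem_irreducibleComponents C hC
  have h1 : LocCoh.connDim T ≤ topologicalKrullDim ↥(C ∩ O) :=
    connDim_le (hcl.inter (isClosed_others C))
      (not_isConnected_compl_inter hcl (isClosed_others C) hu hne fun h => hCO (h ▸ subset_univ C))
  haveI := Subtype.irreducibleSpace hC.1
  refine le_trans ?_ (topologicalKrullDim_add_one_le (X := C) (F := Subtype.val ⁻¹' O)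
    (hF := (isClosed_others C).preimage continuous_subtype_val) fun h => hCO fun x hx => ?_)
  swap
  · exact (h.symm ▸ mem_univ (⟨x, hx⟩ : C) : (⟨x, hx⟩ : C) ∈ Subtype.val ⁻¹' O)
  · gcongr
    refine h1.trans (Topology.IsInducing.topologicalKrullDim_le (f := fun x : ↥(C ∩ O) =>
      (⟨⟨x.1, x.2.1⟩, x.2.2⟩ : ↥(Subtype.val ⁻¹' O : Set C))) ?_)
    exact Topology.IsInducing.subtypeVal.of_comp_iff.1 (Topology.IsInducing.subtypeVal.of_comp_iff.1
      Topology.IsInducing.subtypeVal)

theorem connDim_le_subdim : LocCoh.connDim T ≤ LocCoh.subdim T := by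
  refine le_iInf₂ fun C hC => ?_
  by_cases hne : C = univ
  · subst hne
    exact connDim_le_dim.trans topologicalKrullDim_univ.ge
  · exact le_trans (le_add_of_nonneg_right zero_le_one) (connDim_add_one_le hC hne)

theorem ne_univ_of_reducible (h : ¬ IrreducibleSpace T) {C : Set T} (hC : C ∈ irreducibleComponents T) :
    C ≠ univ := fun he => h (irreducible_univ_of_component he hC)

theorem connDim_add_one_le_subdim (h : ¬ IrreducibleSpace T) :
    LocCoh.connDim T + 1 ≤ LocCoh.subdim T :=
  le_iInf₂ fun _ hC => connDim_add_one_le hC (ne_univ_of_reducible h hC)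

/-- In an irreducible space both invariants are the dimension. -/
theorem connDim_eq_subdim [IrreducibleSpace T] : LocCoh.connDim T = LocCoh.subdim T := by
  refine le_antisymm connDim_le_subdim ?_
  obtain ⟨Z, hZ, hconn, he⟩ := exists_connDim T
  rw [he]
  obtain rfl : Z = univ := by
    by_contra hne
    exact hconn (IsIrreducible.isConnected ⟨nonempty_compl.2 hne,
      (IrreducibleSpace.isIrreducible_univ T).isPreirreducible.open_subset hZ.isOpen_compl (subset_univ _)⟩)
  exact subdim_le (by rw [irreducibleComponents_eq_singleton]; exact rfl)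

/-- The connectedness dimension through partitions of the irreducible components. -/
theorem connDim_eq_iInf [Nonempty T] :
    LocCoh.connDim T = ⨅ (A : Set (Set T)) (B : Set (Set T)) (_ : A ⊆ irreducibleComponents T ∧
      B ⊆ irreducibleComponents T ∧ A.Nonempty ∧ B.Nonempty ∧ A ∪ B = irreducibleComponents T),
      topologicalKrullDim ↥(⋃₀ A ∩ ⋃₀ B) := by
  refine le_antisymm (le_iInf₂ fun A B => le_iInf fun ⟨hA, hB, hAn, hBn, hAB⟩ => ?_) ?_
  · have hcl := (isClosed_sUnion_components hA).inter (isClosed_sUnion_components hB)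
    have hu : ⋃₀ A ∪ ⋃₀ B = univ := by rw [← sUnion_union, hAB, sUnion_irreducibleComponents]
    by_cases hcap : ∃ C, C ∈ A ∧ C ∈ B
    · obtain ⟨C, hCA, hCB⟩ := hcap
      exact (connDim_le_subdim.trans (subdim_le (hA hCA))).trans
        (topologicalKrullDim_mono (subset_inter (subset_sUnion_of_mem hCA) (subset_sUnion_of_mem hCB)))
    · push Not at hcap
      obtain ⟨a, ha⟩ := hAn
      obtain ⟨b, hb⟩ := hBn
      refine connDim_le hcl (not_isConnected_compl_inter (isClosed_sUnion_components hA)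
        (isClosed_sUnion_components hB) hu (fun h => ?_) fun h => ?_)
      · exact not_subset_sUnion (hB hb) hA (fun h' => hcap b h' hb) (h ▸ subset_univ b)
      · exact not_subset_sUnion (hA ha) hB (hcap a ha) (h ▸ subset_univ a)
  · obtain ⟨Z, hZ, hconn, he⟩ := exists_connDim T
    rw [he]
    have hne : (irreducibleComponents T).Nonempty :=
      ⟨_, irreducibleComponent_mem_irreducibleComponents (Classical.arbitrary T)⟩
    rcases exists_split hZ hconn with rfl | ⟨F₁, F₂, h₁, h₂, hu, hi, n₁, n₂⟩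
    · refine iInf₂_le_of_le (irreducibleComponents T) (irreducibleComponents T) (iInf_le_of_le
        ⟨subset_rfl, subset_rfl, hne, hne, union_self _⟩ (topologicalKrullDim_mono (subset_univ _)))
    · have hdich : ∀ C ∈ irreducibleComponents T, C ⊆ F₁ ∨ C ⊆ F₂ := fun C hC =>
        isPreirreducible_iff_isClosed_union_isClosed.1 hC.1.isPreirreducible F₁ F₂ h₁ h₂ (hu ▸ subset_univ C)
      have hex : ∀ {F G : Set T}, F ∪ G = univ → G ≠ univ →
          (∀ C ∈ irreducibleComponents T, C ⊆ F ∨ C ⊆ G) → ∃ C ∈ irreducibleComponents T, C ⊆ F := by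
        intro F G _ hG hd
        by_contra hcon
        push Not at hcon
        refine hG (eq_univ_of_univ_subset ?_)
        rw [← sUnion_irreducibleComponents]
        exact sUnion_subset fun C hC => (hd C hC).resolve_left (hcon C hC)
      obtain ⟨C₁, hC₁, hC₁'⟩ := hex hu n₂ hdich
      obtain ⟨C₂, hC₂, hC₂'⟩ := hex ((union_comm _ _).trans hu) n₁ fun C hC => (hdich C hC).symm
      refine iInf₂_le_of_le {C ∈ irreducibleComponents T | C ⊆ F₁} {C ∈ irreducibleComponents T | C ⊆ F₂}
        (iInf_le_of_le ⟨fun C hC => hC.1, fun C hC => hC.1, ⟨C₁, hC₁, hC₁'⟩, ⟨C₂, hC₂, hC₂'⟩,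
          subset_antisymm (union_subset (fun C hC => hC.1) fun C hC => hC.1)
            fun C hC => (hdich C hC).imp (fun h => ⟨hC, h⟩) fun h => ⟨hC, h⟩⟩ (topologicalKrullDim_mono ?_))
      rw [← hi]
      exact inter_subset_inter (sUnion_subset fun C hC => hC.2) (sUnion_subset fun C hC => hC.2)

end Groth.Agent.H4Conn
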