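import Groth.Agent.H4Conn.Bound
import Groth.Agent.H4LC.CdDim

/-!
# Applications of the connectedness bounds
-/

set_option autoImplicit false
set_option linter.style.haveILetI false

universe u

open IsLocalRing PrimeSpectrum

namespace Groth.Agent.H4Conn

open Groth.Agent.H4LC

variable {R : Type u} [CommRing R] [IsNoetherianRing R] [IsLocalRing R]

theorem exists_split_nat {a b : Ideal R} (ha : a ≠ ⊤) (hb : b ≠ ⊤)
    (hab : ringKrullDim (R ⧸ (a ⊔ b)) < min (ringKrullDim (R ⧸ a)) (ringKrullDim (R ⧸ b))) :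
    ∃ δ : ℕ, ringKrullDim (R ⧸ (a ⊔ b)) = δ ∧ ((δ + 1 : ℕ) : WithBot ℕ∞) ≤ ringKrullDim (R ⧸ a) ∧
      ((δ + 1 : ℕ) : WithBot ℕ∞) ≤ ringKrullDim (R ⧸ b) := by
  obtain ⟨δ, hδ⟩ := exists_nat_dim (ne_top_of_le_ne_top (maximalIdeal.isMaximal R).ne_top
    (sup_le (le_maximalIdeal ha) (le_maximalIdeal hb)))
  obtain ⟨x, hx⟩ := exists_nat_dim ha
  obtain ⟨y, hy⟩ := exists_nat_dim hb
  rw [hδ, hx, hy, lt_min_iff] at hab
  have h1 : δ < x := by exact_mod_cast hab.1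
  have h2 : δ < y := by exact_mod_cast hab.2
  refine ⟨δ, hδ, ?_, ?_⟩
  · rw [hx]; exact_mod_cast h1
  · rw [hy]; exact_mod_cast h2

theorem cdLE_of_radical_span {a : Ideal R} {s : Finset R}
    (hs : (Ideal.span (s : Set R)).radical = a.radical) : LocCoh.CdLE R a s.card :=
  cdLE_of_radical_eq hs (cdLE_span_finset s)

variable [IsAdicComplete (maximalIdeal R) R]

theorem connDim_le_connDim_quotient (a : Ideal R) (ha : a ≠ ⊤) (k : ℕ) (hk : LocCoh.CdLE R a k) :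
    LocCoh.connDim (PrimeSpectrum R) ≤ LocCoh.connDim (PrimeSpectrum (R ⧸ a)) + (k : WithBot ℕ∞) + 1 ∧
      ((minimalPrimes R).Nontrivial →
        LocCoh.connDim (PrimeSpectrum R) < LocCoh.connDim (PrimeSpectrum (R ⧸ a)) + (k : WithBot ℕ∞) + 1) := by
  have h := min_le_connDim_quotient a ha k hk
  refine ⟨le_trans (le_min (le_add_of_nonneg_right zero_le_one) connDim_le_subdim) h, fun hnt => ?_⟩
  have h1 : LocCoh.connDim (PrimeSpectrum R) + 1 ≤ LocCoh.subdim (PrimeSpectrum R) :=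
    connDim_add_one_le_subdim (not_irreducibleSpace hnt)
  refine lt_of_lt_of_le ?_ ((le_min le_rfl h1).trans h)
  obtain ⟨c, hc⟩ := WithBot.ne_bot_iff_exists.1 (connDim_ne_bot (R := R))
  obtain ⟨p, hp⟩ := (hnt.nonempty)
  obtain ⟨m, hm⟩ := exists_nat_dim hp.1.1.ne_top
  have hfin : c < ⊤ := by
    have : (c : WithBot ℕ∞) ≤ (m : WithBot ℕ∞) :=
      hc.le.trans (connDim_le_subdim.trans ((subdim_le_dim_quotient hp).trans hm.le))
    rw [← WithBot.coe_natCast, WithBot.coe_le_coe] at this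
    exact this.trans_lt (ENat.coe_lt_top m)
  rw [← hc, ← WithBot.coe_one, ← WithBot.coe_add, WithBot.coe_lt_coe]
  exact (ENat.lt_add_one_iff hfin.ne).2 le_rfl

/-- Faltings' connectedness theorem for the punctured spectrum. -/
theorem isConnected_punctured [IsDomain R] (d : ℕ) (hd : ringKrullDim R = d) (k : ℕ) (hk' : k + 2 ≤ d)
    (I : Ideal R) (hI : I ≠ ⊤) (hk : LocCoh.CdLE R I k) :
    IsConnected {x : PrimeSpectrum R | I ≤ x.asIdeal ∧ x.asIdeal ≠ maximalIdeal R} := by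
  obtain ⟨e, he⟩ := exists_nat_dim hI
  have h1 := dim_le_cd_add_dim_quotient e I k d he.le hI hd hk
  obtain ⟨P, hP, hIP, hP1⟩ := exists_prime_dim_one I (by rw [he]; exact_mod_cast (by omega : 1 ≤ e))
  refine ⟨⟨⟨P, hP⟩, hIP, ne_maximalIdeal_of_dim_one hP1⟩, ?_⟩
  let W : Set (PrimeSpectrum R) := {x | I ≤ x.asIdeal ∧ x.asIdeal ≠ maximalIdeal R}
  rintro U V hU hV hUV ⟨x, hx, hxU⟩ ⟨y, hy, hyV⟩
  by_contra hempty
  let m : PrimeSpectrum R := ⟨maximalIdeal R, inferInstance⟩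
  have hIm : I ≤ maximalIdeal R := le_maximalIdeal hI
  have hclosed : ∀ {O O' : Set (PrimeSpectrum R)}, IsOpen O → IsOpen O' → W ⊆ O ∪ O' →
      (∀ z ∈ W, z ∈ O → z ∉ O') →
      IsClosed ({z | I ≤ z.asIdeal} ∩ ({z | z.asIdeal = maximalIdeal R} ∪ (Oᶜ))) := by
    intro O O' hO hO' _ _
    refine IsClosed.inter (isClosed_zeroLocus (I : Set R)) (IsClosed.union ?_ hO.isClosed_compl)
    rw [show {z : PrimeSpectrum R | z.asIdeal = maximalIdeal R} = zeroLocus (maximalIdeal R : Set R) from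
      Set.ext fun z => ⟨fun h => h.ge, fun h => ((maximalIdeal.isMaximal R).eq_of_le z.2.ne_top h).symm⟩]
    exact isClosed_zeroLocus _
  have hdis : ∀ z ∈ W, z ∈ U → z ∉ V := fun z hz h h' => hempty ⟨z, hz, h, h'⟩
  obtain ⟨A, hA⟩ := (isClosed_iff_zeroLocus_ideal _).1 (hclosed hV hU (hUV.trans (Set.union_comm U V).le)
    fun z hz h h' => hdis z hz h' h)
  obtain ⟨B, hB⟩ := (isClosed_iff_zeroLocus_ideal _).1 (hclosed hU hV hUV hdis)
  have memA : ∀ z : PrimeSpectrum R, A ≤ z.asIdeal ↔ I ≤ z.asIdeal ∧ (z.asIdeal = maximalIdeal R ∨ z ∉ V) :=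
    fun z => (Set.ext_iff.1 hA z).symm
  have memB : ∀ z : PrimeSpectrum R, B ≤ z.asIdeal ↔ I ≤ z.asIdeal ∧ (z.asIdeal = maximalIdeal R ∨ z ∉ U) :=
    fun z => (Set.ext_iff.1 hB z).symm
  have hAm : A ≤ maximalIdeal R := (memA m).2 ⟨hIm, Or.inl rfl⟩
  have hBm : B ≤ maximalIdeal R := (memB m).2 ⟨hIm, Or.inl rfl⟩
  have hAx : A ≤ x.asIdeal := (memA x).2 ⟨hx.1, Or.inr (hdis x hx hxU)⟩
  have hBy : B ≤ y.asIdeal := (memB y).2 ⟨hy.1, Or.inr fun h => hdis y hy h hyV⟩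
  have hone : ∀ {C : Ideal R} {z : PrimeSpectrum R}, C ≤ z.asIdeal → z.asIdeal ≠ maximalIdeal R →
      ((0 + 1 : ℕ) : WithBot ℕ∞) ≤ ringKrullDim (R ⧸ C) := fun {C z} hC hz => by
    refine le_trans ?_ (dim_quotient_mono hC)
    rw [ringKrullDim_quotient]
    refine le_trans ?_ (Order.LTSeries.length_le_krullDim ((RelSeries.singleton _
      (⟨m, (mem_zeroLocus _ _).2 (le_maximalIdeal z.2.ne_top)⟩ : zeroLocus (z.asIdeal : Set R))).cons
      ⟨z, (mem_zeroLocus _ _).2 subset_rfl⟩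
      (show z.asIdeal < maximalIdeal R from lt_of_le_of_ne (le_maximalIdeal z.2.ne_top) hz) : LTSeries _))
    simp [RelSeries.cons_length]
  have hzero : ringKrullDim (R ⧸ (A ⊔ B)) = ((0 : ℕ) : WithBot ℕ∞) := by
    haveI : Nontrivial (R ⧸ (A ⊔ B)) := Ideal.Quotient.nontrivial_iff.2
      (ne_top_of_le_ne_top (maximalIdeal.isMaximal R).ne_top (sup_le hAm hBm))
    refine le_antisymm ?_ ringKrullDim_nonneg_of_nontrivial
    rw [ringKrullDim_quotient, Nat.cast_zero, Order.krullDim_nonpos_iff_forall_isMax]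
    intro z w hzw
    have hzm : z.1.asIdeal = maximalIdeal R := by
      by_contra hne
      obtain ⟨hI1, h1⟩ := (memA z.1).1 (le_sup_left.trans z.2)
      obtain ⟨-, h2⟩ := (memB z.1).1 (le_sup_right.trans z.2)
      exact (hUV ⟨hI1, hne⟩).elim (h2.resolve_left hne) (h1.resolve_left hne)
    exact show w.1.asIdeal ≤ z.1.asIdeal from hzm ▸ le_maximalIdeal w.1.2.ne_top
  have hrad : I.radical = (A ⊓ B).radical := radical_eq_of_forall fun Q hQ => by
    rw [hQ.inf_le, memA ⟨Q, hQ⟩, memB ⟨Q, hQ⟩]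
    refine ⟨fun h => ?_, fun h => h.elim And.left And.left⟩
    by_cases hQm : Q = maximalIdeal R
    · exact Or.inl ⟨h, Or.inl hQm⟩
    · rcases hUV (show (⟨Q, hQ⟩ : PrimeSpectrum R) ∈ W from ⟨h, hQm⟩) with hh | hh
      · exact Or.inl ⟨h, Or.inr (hdis _ ⟨h, hQm⟩ hh)⟩
      · exact Or.inr ⟨h, Or.inr fun h' => hdis _ ⟨h, hQm⟩ h' hh⟩
  have := dim_le_of_split 0 A B k d hd (ne_top_of_le_ne_top (maximalIdeal.isMaximal R).ne_top hAm)
    (ne_top_of_le_ne_top (maximalIdeal.isMaximal R).ne_top hBm) hzero (hone hAx hx.2) (hone hBy hy.2)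
    (cdLE_of_radical_eq hrad hk)
  omega

end Groth.Agent.H4Conn
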