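import Groth.Agent.H4Conn.Apps
import Groth.Agent.H05EGA4.Ratliff
import Groth.Agent.H4LC.CompletionTransfer

/-!
# Connectedness dimension and completion
-/

set_option autoImplicit false
set_option linter.style.haveILetI false

universe u

open IsLocalRing PrimeSpectrum

namespace Groth.Agent.H4Conn

theorem le_subdim {A : Type u} [CommRing A] {x : WithBot ℕ∞}
    (h : ∀ p ∈ minimalPrimes A, x ≤ ringKrullDim (A ⧸ p)) : x ≤ LocCoh.subdim (PrimeSpectrum A) := by
  refine le_iInf₂ fun C hC => ?_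
  rw [← PrimeSpectrum.zeroLocus_minimalPrimes] at hC
  obtain ⟨p, hp, rfl⟩ := hC
  exact (h p hp).trans (dim_zeroLocus p).ge

variable (R : Type u) [CommRing R] [IsNoetherianRing R] [IsLocalRing R]

local notation "C" => AdicCompletion (maximalIdeal R) R

theorem faithfullyFlat_completion : Module.FaithfullyFlat R C := by
  have hcl : H4LC.IsComplLike R C := H4LC.isComplLike_adicCompletion
  haveI : Module.Flat R C := hcl.flat
  haveI : IsLocalHom (algebraMap R C) := hcl.isLocalHom
  exact Module.FaithfullyFlat.of_flat_of_isLocalHom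

theorem comap_surjective : Function.Surjective (PrimeSpectrum.comap (algebraMap R C)) := by
  haveI := faithfullyFlat_completion R
  exact PrimeSpectrum.comap_surjective_of_faithfullyFlat

theorem dim_preimage (J : Ideal R) :
    topologicalKrullDim (PrimeSpectrum.comap (algebraMap R C) ⁻¹' zeroLocus (J : Set R)) = ringKrullDim (R ⧸ J) := by
  rw [show PrimeSpectrum.comap (algebraMap R C) ⁻¹' zeroLocus (J : Set R) =
      zeroLocus ((J.map (algebraMap R C) : Ideal C) : Set C) from Set.ext fun x =>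
    (Ideal.map_le_iff_le_comap).symm, dim_zeroLocus, H05EGA4.ringKrullDim_completion_quotient]

theorem connDim_completion_le : LocCoh.connDim (PrimeSpectrum C) ≤ LocCoh.connDim (PrimeSpectrum R) := by
  obtain ⟨Z, hZ, hconn, he⟩ := exists_connDim (PrimeSpectrum R)
  let f := PrimeSpectrum.comap (algebraMap R C)
  have hf : Continuous f := PrimeSpectrum.continuous_comap _
  have hdim : topologicalKrullDim ↥(f ⁻¹' Z) = topologicalKrullDim Z := by
    obtain ⟨J, rfl⟩ := (isClosed_iff_zeroLocus_ideal Z).1 hZ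
    rw [dim_preimage, dim_zeroLocus]
  rw [he, ← hdim]
  refine connDim_le (hZ.preimage hf) ?_
  rcases exists_split hZ hconn with rfl | ⟨F₁, F₂, h₁, h₂, hu, hi, n₁, n₂⟩
  · rw [Set.preimage_univ, Set.compl_univ]
    exact fun h => h.nonempty.ne_empty rfl
  · rw [← hi, Set.preimage_inter]
    refine not_isConnected_compl_inter (h₁.preimage hf) (h₂.preimage hf)
      (by rw [← Set.preimage_union, hu, Set.preimage_univ]) (fun h => ?_) fun h => ?_
    · exact n₁ ((comap_surjective R).preimage_injective (h.trans Set.preimage_univ.symm))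
    · exact n₂ ((comap_surjective R).preimage_injective (h.trans Set.preimage_univ.symm))

theorem connDim_le_completion (hprime : ∀ p ∈ minimalPrimes R, (p.map (algebraMap R C)).IsPrime) :
    LocCoh.connDim (PrimeSpectrum R) ≤ LocCoh.connDim (PrimeSpectrum C) := by
  classical
  obtain ⟨Z, hZ, hconn, he⟩ := exists_connDim (PrimeSpectrum C)
  rw [he]
  have hcover : ∀ P : Ideal R, P.IsPrime → ∃ p ∈ minimalPrimes R, p ≤ P := fun P hP => by
    haveI := hP
    exact Ideal.exists_minimalPrimes_le (I := (⊥ : Ideal R)) (J := P) bot_le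
  rcases exists_split hZ hconn with rfl | ⟨F₁, F₂, h₁, h₂, hu, hi, n₁, n₂⟩
  · rw [topologicalKrullDim_univ, PrimeSpectrum.topologicalKrullDim_eq_ringKrullDim, H05EGA4.ringKrullDim_adicCompletion,
      ← PrimeSpectrum.topologicalKrullDim_eq_ringKrullDim]
    exact connDim_le_dim
  have hsp : ∀ {F : Set (PrimeSpectrum C)}, IsClosed F → ∀ {x y : PrimeSpectrum C}, x ∈ F → x ≤ y → y ∈ F :=
    fun hF _ _ hx hxy => ((le_iff_specializes _ _).1 hxy).mem_closed hF hx
  have hfin := minimalPrimes.finite_of_isNoetherianRing R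
  let S := fun F : Set (PrimeSpectrum C) => {p ∈ minimalPrimes R | ∀ h : (p.map (algebraMap R C)).IsPrime,
    (⟨_, h⟩ : PrimeSpectrum C) ∈ F}
  have hSfin : ∀ F, (S F).Finite := fun F => hfin.subset fun p hp => hp.1
  let a := (hSfin F₁).toFinset.inf id
  let b := (hSfin F₂).toFinset.inf id
  have hor : ∀ P : Ideal R, P.IsPrime → a ≤ P ∨ b ≤ P := fun P hP => by
    obtain ⟨p, hp, hpP⟩ := hcover P hP
    rcases (hu.symm ▸ Set.mem_univ _ : (⟨_, hprime p hp⟩ : PrimeSpectrum C) ∈ F₁ ∪ F₂) with h | h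
    · exact Or.inl ((Finset.inf_le (f := id) ((hSfin F₁).mem_toFinset.2 ⟨hp, fun _ => h⟩)).trans hpP)
    · exact Or.inr ((Finset.inf_le (f := id) ((hSfin F₂).mem_toFinset.2 ⟨hp, fun _ => h⟩)).trans hpP)
  have hex : ∀ {F : Set (PrimeSpectrum C)}, IsClosed F → F ≠ Set.univ →
      ∃ P : Ideal R, P.IsPrime ∧ ¬ (hSfin F).toFinset.inf id ≤ P := by
    intro F hF hne
    obtain ⟨x, hx⟩ := (Set.ne_univ_iff_exists_notMem _).1 hne
    obtain ⟨p, hp, hpx⟩ := hcover _ (Ideal.IsPrime.comap (algebraMap R C) (hK := x.2))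
    refine ⟨p, hp.1.1, fun h => hx ?_⟩
    obtain ⟨r, hr, hrp⟩ := (Ideal.IsPrime.inf_le' hp.1.1).1 h
    obtain ⟨hr1, hr2⟩ := (hSfin F).mem_toFinset.1 hr
    obtain rfl : r = p := le_antisymm hrp (hp.2 hr1.1 hrp)
    exact hsp hF (hr2 (hprime r hr1)) (show r.map (algebraMap R C) ≤ x.asIdeal from Ideal.map_le_iff_le_comap.2 hpx)
  refine (connDim_le_dim_sup hor (hex h₁ n₁) (hex h₂ n₂)).trans ?_
  rw [← dim_preimage, ← hi]
  refine topologicalKrullDim_mono fun x hx => ?_
  have key : ∀ {F : Set (PrimeSpectrum C)}, IsClosed F →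
      (hSfin F).toFinset.inf id ≤ x.asIdeal.comap (algebraMap R C) → x ∈ F := fun {F} hF h => by
    obtain ⟨r, hr, hrp⟩ := (Ideal.IsPrime.inf_le' (Ideal.IsPrime.comap (algebraMap R C) (hK := x.2))).1 h
    obtain ⟨hr1, hr2⟩ := (hSfin F).mem_toFinset.1 hr
    exact hsp hF (hr2 (hprime r hr1)) (show r.map (algebraMap R C) ≤ x.asIdeal from Ideal.map_le_iff_le_comap.2 hrp)
  have hx' : a ⊔ b ≤ x.asIdeal.comap (algebraMap R C) := hx
  exact ⟨key h₁ (le_sup_left.trans hx'), key h₂ (le_sup_right.trans hx')⟩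

theorem subdim_completion_le : LocCoh.subdim (PrimeSpectrum C) ≤ LocCoh.subdim (PrimeSpectrum R) := by
  refine le_subdim fun p hp => ?_
  haveI := hp.1.1
  obtain ⟨x, hx⟩ := comap_surjective R ⟨p, hp.1.1⟩
  have hxp : x.asIdeal.comap (algebraMap R C) = p := congrArg PrimeSpectrum.asIdeal hx
  obtain ⟨P, hP, hPx⟩ := Ideal.exists_minimalPrimes_le (I := p.map (algebraMap R C)) (J := x.asIdeal)
    (Ideal.map_le_iff_le_comap.2 hxp.ge)
  haveI := hP.1.1
  obtain ⟨P', hP', hP'P⟩ := Ideal.exists_minimalPrimes_le (I := (⊥ : Ideal C)) (J := P) bot_le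
  have h1 := (H05EGA4.minimalPrime_completion_spec hP').1
  have h2 : P'.comap (algebraMap R C) ≤ p := (Ideal.comap_mono (hP'P.trans hPx)).trans hxp.le
  have h3 : p ≤ P'.comap (algebraMap R C) := hp.2 ⟨h1.1.1, bot_le⟩ h2
  have h4 : P ≤ P' := hP.2 ⟨hP'.1.1, Ideal.map_le_iff_le_comap.2 h3⟩ hP'P
  refine (subdim_le_dim_quotient (le_antisymm hP'P h4 ▸ hP')).trans ?_
  rw [← H05EGA4.ringKrullDim_completion_quotient (A := R) p]
  exact dim_quotient_mono hP.1.2

theorem subdim_le_completion (hR : CAlg.IsUniversallyCatenary R) :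
    LocCoh.subdim (PrimeSpectrum R) ≤ LocCoh.subdim (PrimeSpectrum C) := by
  refine le_subdim fun P hP => ?_
  obtain ⟨hp, hP'⟩ := H05EGA4.minimalPrime_completion_spec hP
  set p := P.comap (algebraMap R C)
  haveI := hp.isPrime
  haveI : IsLocalRing (R ⧸ p) := .of_surjective' _ Ideal.Quotient.mk_surjective
  have h1 := H05EGA4.isFormallyCatenary_of_isUniversallyCatenary R hR p
  rw [H05EGA4.isFormallyEquidim_iff_of_surjective (R ⧸ p) (Ideal.Quotient.mk p) Ideal.Quotient.mk_surjective,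
    Ideal.mk_ker, H05EGA4.isEquidim_quotient_iff] at h1
  rw [h1 P hP', H05EGA4.ringKrullDim_completion_quotient]
  exact subdim_le_dim_quotient hp

end Groth.Agent.H4Conn
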