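import Groth.Agent.H4Conn.Ring
import Groth.Agent.H4LC.HLVT
import Groth.Agent.H4LC.MayerVietoris
import Groth.Agent.H4LC.Cd

/-!
# Cohomological dimension and connectedness (Grothendieck, Faltings)
-/

set_option autoImplicit false
set_option linter.style.haveILetI false

universe u

open IsLocalRing PrimeSpectrum

namespace Groth.Agent.H4Conn

open Groth.Agent.H4LC

variable {R : Type u} [CommRing R] [IsNoetherianRing R]

theorem cdLE_quotient {I : Ideal R} {k : ℕ} (h : LocCoh.CdLE R I k) (q : Ideal R) :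
    LocCoh.CdLE (R ⧸ q) (I.map (algebraMap R (R ⧸ q))) k := by
  intro N _ _ i hi
  letI : Module R N := Module.compHom N (algebraMap R (R ⧸ q))
  haveI : IsScalarTower R (R ⧸ q) N := IsScalarTower.of_algebraMap_smul fun _ _ => rfl
  exact (subsingleton_H_map_iff (R := R) (R ⧸ q) I N i).2 (h N i hi)

theorem cdLE_of_radical_eq {I J : Ideal R} (h : I.radical = J.radical) {k : ℕ} (hI : LocCoh.CdLE R I k) :
    LocCoh.CdLE R J k := fun N _ _ i hi => by
  obtain ⟨e⟩ := nonempty_H_equiv_of_radical_eq h N i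
  exact e.toEquiv.subsingleton_congr.1 (hI N i hi)

omit [IsNoetherianRing R] in
theorem radical_eq_of_forall {I J : Ideal R} (h : ∀ P : Ideal R, P.IsPrime → (I ≤ P ↔ J ≤ P)) :
    I.radical = J.radical := by
  rw [Ideal.radical_eq_sInf, Ideal.radical_eq_sInf]
  exact congrArg sInf (Set.ext fun P => ⟨fun ⟨h1, h2⟩ => ⟨(h P h2).1 h1, h2⟩, fun ⟨h1, h2⟩ => ⟨(h P h2).2 h1, h2⟩⟩)

variable [IsLocalRing R]

theorem radical_eq_maximalIdeal_of_dim_zero {J : Ideal R} (hJ : ringKrullDim (R ⧸ J) = 0) :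
    J.radical = (maximalIdeal R).radical := by
  have hJm : J ≤ maximalIdeal R := le_maximalIdeal fun h => by
    subst h
    haveI : Subsingleton (R ⧸ (⊤ : Ideal R)) := Ideal.Quotient.subsingleton_iff.2 rfl
    rw [ringKrullDim_eq_bot_of_subsingleton] at hJ
    exact absurd hJ (by decide)
  refine radical_eq_of_forall fun P hP => ⟨fun hle => ?_, fun h => hJm.trans h⟩
  by_contra hne
  have hlt : P < maximalIdeal R := lt_of_le_of_ne (le_maximalIdeal hP.ne_top) fun e => hne e.ge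
  rw [ringKrullDim_quotient] at hJ
  have := Order.LTSeries.length_le_krullDim ((RelSeries.singleton _
    (⟨⟨maximalIdeal R, inferInstance⟩, (mem_zeroLocus _ _).2 hJm⟩ : zeroLocus (J : Set R))).cons
    ⟨⟨P, hP⟩, (mem_zeroLocus _ _).2 hle⟩ (show P < maximalIdeal R from hlt) : LTSeries _)
  rw [hJ] at this
  simp only [RelSeries.cons_length, RelSeries.singleton_length] at this
  exact absurd (show (1 : ℕ) ≤ 0 by exact_mod_cast this) (by omega)

/-- The dimension is bounded by the cohomological dimension plus the dimension of the quotient. -/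
theorem dim_le_cd_add_dim_quotient : ∀ (δ : ℕ) (J : Ideal R) (k n : ℕ), ringKrullDim (R ⧸ J) ≤ δ → J ≠ ⊤ →
    ringKrullDim R = n → LocCoh.CdLE R J k → n ≤ k + δ := by
  intro δ
  induction δ with
  | zero =>
    intro J k n hJ hne hn hk
    haveI : Nontrivial (R ⧸ J) := Ideal.Quotient.nontrivial_iff.2 hne
    have h0 : ringKrullDim (R ⧸ J) = 0 := le_antisymm hJ ringKrullDim_nonneg_of_nontrivial
    by_contra hlt
    exact not_subsingleton_iff_nontrivial.2 (nontrivial_H_ringKrullDim (R := R) n hn)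
      (cdLE_of_radical_eq (radical_eq_maximalIdeal_of_dim_zero h0) hk R n (by omega))
  | succ δ ih =>
    intro J k n hJ hne hn hk
    obtain ⟨m, hm⟩ := exists_nat_dim hne
    rcases Nat.lt_or_ge m (δ + 1) with hlt | hge
    · exact (ih J k n (hm.le.trans (by exact_mod_cast Nat.le_of_lt_succ hlt)) hne hn hk).trans (by omega)
    · have hbig : ((0 + 1 : ℕ) : WithBot ℕ∞) ≤ ringKrullDim (R ⧸ J) := by
        rw [hm]; exact_mod_cast (by omega : 0 + 1 ≤ m)
      obtain ⟨y, hy, hyq⟩ := exists_mem_maximalIdeal_forall_notMem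
        (Ideal.finite_minimalPrimes_of_isNoetherianRing R J) (fun q hq => hq.1.1)
        fun q hq => minimalPrime_ne_maximalIdeal hq hbig
      have hne' : J ⊔ Ideal.span {y} ≠ ⊤ := ne_top_of_le_ne_top (maximalIdeal.isMaximal R).ne_top
        (sup_le (le_maximalIdeal hne) ((Ideal.span_singleton_le_iff_mem _).2 hy))
      obtain ⟨e, he⟩ := exists_nat_dim hne'
      have h1 := dim_lt_of_forall le_sup_left (fun q hq h =>
        hyq q hq (h (Ideal.mem_sup_right (Ideal.mem_span_singleton_self y)))) he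
      have h2 : e < δ + 1 := by exact_mod_cast lt_of_lt_of_le h1 hJ
      have := ih _ (k + 1) n (he.le.trans (by exact_mod_cast Nat.le_of_lt_succ h2)) hne' hn
        (cdLE_sup_span_singleton _ hk y)
      omega

section Domain

variable {S : Type u} [CommRing S] [IsNoetherianRing S] [IsLocalRing S] [IsDomain S]
  [IsAdicComplete (maximalIdeal S) S]

theorem cd_ge_of_split_zero (a b : Ideal S) (k n : ℕ) (hn : ringKrullDim S = n)
    (h0 : ringKrullDim (S ⧸ (a ⊔ b)) = 0) (ha : (1 : WithBot ℕ∞) ≤ ringKrullDim (S ⧸ a))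
    (hb : (1 : WithBot ℕ∞) ≤ ringKrullDim (S ⧸ b)) (hk : LocCoh.CdLE S (a ⊓ b) k) : n ≤ k + 1 := by
  by_contra hlt
  obtain ⟨i, rfl⟩ : ∃ i, n = i + 1 := ⟨n - 1, by omega⟩
  obtain ⟨δ, -, hexact, -, -⟩ := mayer_vietoris a b (ModuleCat.of S S)
  have h1 := subsingleton_H_top_completeDomain a (i + 1) hn ha
  have h2 := subsingleton_H_top_completeDomain b (i + 1) hn hb
  have h3 : Subsingleton (LocCoh.H (a ⊓ b) i S) := hk S i (by omega)
  have h4 : Subsingleton (LocCoh.H (a ⊔ b) (i + 1) S) := by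
    refine subsingleton_of_forall_eq 0 fun z => ?_
    obtain ⟨w, rfl⟩ := ((hexact i) z).1 (Prod.ext (@Subsingleton.elim _ h1 _ _) (@Subsingleton.elim _ h2 _ _))
    exact (congrArg (δ i) (@Subsingleton.elim _ h3 w 0)).trans (map_zero _)
  obtain ⟨e⟩ := nonempty_H_equiv_of_radical_eq (radical_eq_maximalIdeal_of_dim_zero h0) S (i + 1)
  exact not_subsingleton_iff_nontrivial.2 (nontrivial_H_ringKrullDim (R := S) (i + 1) hn)
    (e.toEquiv.subsingleton_congr.1 h4)

/-- The connectedness bound for a complete local domain. -/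
theorem dim_le_of_split : ∀ (δ : ℕ) (a b : Ideal S) (k n : ℕ), ringKrullDim S = n → a ≠ ⊤ → b ≠ ⊤ →
    ringKrullDim (S ⧸ (a ⊔ b)) = δ → ((δ + 1 : ℕ) : WithBot ℕ∞) ≤ ringKrullDim (S ⧸ a) →
    ((δ + 1 : ℕ) : WithBot ℕ∞) ≤ ringKrullDim (S ⧸ b) → LocCoh.CdLE S (a ⊓ b) k → n ≤ k + δ + 1 := by
  intro δ
  induction δ using Nat.strong_induction_on with
  | _ δ ih =>
    intro a b k n hn ha hb hab hda hdb hk
    rcases Nat.eq_zero_or_pos δ with rfl | hpos
    · exact cd_ge_of_split_zero a b k n hn hab (by exact_mod_cast hda) (by exact_mod_cast hdb) hk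
    obtain ⟨δ, rfl⟩ : ∃ j, δ = j + 1 := ⟨δ - 1, by omega⟩
    obtain ⟨y, hy, hyq⟩ := exists_mem_maximalIdeal_forall_notMem
      (((Ideal.finite_minimalPrimes_of_isNoetherianRing S (a ⊔ b)).union
        (Ideal.finite_minimalPrimes_of_isNoetherianRing S a)).union
        (Ideal.finite_minimalPrimes_of_isNoetherianRing S b))
      (by rintro q ((h | h) | h) <;> exact h.1.1)
      (by
        rintro q ((h | h) | h)
        · exact minimalPrime_ne_maximalIdeal h (n := δ) hab.ge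
        · exact minimalPrime_ne_maximalIdeal h hda
        · exact minimalPrime_ne_maximalIdeal h hdb)
    let Y := Ideal.span {y}
    have hYm : Y ≤ maximalIdeal S := (Ideal.span_singleton_le_iff_mem _).2 hy
    have hab' : (a ⊔ Y) ⊔ (b ⊔ Y) = a ⊔ b ⊔ Y := by rw [← sup_sup_distrib_right]
    have hne' : a ⊔ b ⊔ Y ≠ ⊤ := ne_top_of_le_ne_top (maximalIdeal.isMaximal S).ne_top
      (sup_le (sup_le (le_maximalIdeal ha) (le_maximalIdeal hb)) hYm)
    obtain ⟨e, he⟩ := exists_nat_dim hne'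
    have he1 : e < δ + 1 := by
      have := dim_lt_of_forall le_sup_left (fun q hq h =>
        hyq q (Or.inl (Or.inl hq)) (h (Ideal.mem_sup_right (Ideal.mem_span_singleton_self y)))) he
      rw [hab] at this
      exact_mod_cast this
    have hdrop : ∀ c : Ideal S, c ≠ ⊤ → ((δ + 1 + 1 : ℕ) : WithBot ℕ∞) ≤ ringKrullDim (S ⧸ c) →
        c ⊔ Y ≠ ⊤ ∧ ((e + 1 : ℕ) : WithBot ℕ∞) ≤ ringKrullDim (S ⧸ (c ⊔ Y)) := fun c hc hdc => by
      have hcY : c ⊔ Y ≠ ⊤ := ne_top_of_le_ne_top (maximalIdeal.isMaximal S).ne_top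
        (sup_le (le_maximalIdeal hc) hYm)
      obtain ⟨f, hf⟩ := exists_nat_dim hcY
      have h2 := hdc.trans (dim_le_sup_span_add_one c hy)
      rw [hf] at h2
      refine ⟨hcY, ?_⟩
      rw [hf]
      have h3 : δ + 1 + 1 ≤ f + 1 := by exact_mod_cast h2
      exact_mod_cast (by omega : e + 1 ≤ f)
    obtain ⟨haY, hdaY⟩ := hdrop a ha hda
    obtain ⟨hbY, hdbY⟩ := hdrop b hb hdb
    have hcd : LocCoh.CdLE S ((a ⊔ Y) ⊓ (b ⊔ Y)) (k + 1) := by
      refine cdLE_of_radical_eq (radical_eq_of_forall fun P hP => ?_) (cdLE_sup_span_singleton _ hk y)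
      rw [hP.inf_le, sup_le_iff, sup_le_iff, sup_le_iff, hP.inf_le]
      tauto
    have := ih e he1 (a ⊔ Y) (b ⊔ Y) (k + 1) n hn haY hbY (by rw [hab']; exact he) hdaY hdbY hcd
    omega

/-- A minimal prime over an ideal of small cohomological dimension has large dimension. -/
theorem dim_le_of_minimalPrime (J q : Ideal S) (hq : q ∈ J.minimalPrimes) (k n e : ℕ)
    (hn : ringKrullDim S = n) (he : ringKrullDim (S ⧸ q) = e) (hk : LocCoh.CdLE S J k) : n ≤ k + e := by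
  classical
  have hqne : q ≠ ⊤ := hq.1.1.ne_top
  let T := J.minimalPrimes \ {q}
  have hT : T.Finite := (Ideal.finite_minimalPrimes_of_isNoetherianRing S J).sdiff
  let b := hT.toFinset.inf id
  have hqb : ∀ P : Ideal S, P.IsPrime → (q ⊓ b ≤ P ↔ J ≤ P) := by
    intro P hP
    rw [hP.inf_le, hP.inf_le']
    constructor
    · rintro (h | ⟨r, hr, h⟩)
      · exact hq.1.2.trans h
      · exact ((hT.mem_toFinset.1 hr).1.1.2).trans h
    · intro h
      obtain ⟨r, hr, hrP⟩ := Ideal.exists_minimalPrimes_le (J := P) h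
      by_cases hrq : r = q
      · exact Or.inl (hrq ▸ hrP)
      · exact Or.inr ⟨r, hT.mem_toFinset.2 ⟨hr, hrq⟩, hrP⟩
  rcases T.eq_empty_or_nonempty with hTe | ⟨r₀, hr₀⟩
  · refine dim_le_cd_add_dim_quotient e q k n he.le hqne hn
      (cdLE_of_radical_eq (radical_eq_of_forall fun P hP => ?_) hk)
    rw [← hqb P hP, hP.inf_le, hP.inf_le']
    refine ⟨fun h => h.resolve_right fun ⟨r, hr, _⟩ => ?_, Or.inl⟩
    have := hT.mem_toFinset.1 hr
    rw [hTe] at this
    exact this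
  · have hbr : b ≤ r₀ := Finset.inf_le (f := id) (hT.mem_toFinset.2 hr₀)
    have hbne : b ≠ ⊤ := ne_top_of_le_ne_top hr₀.1.1.1.ne_top hbr
    have hne : q ⊔ b ≠ ⊤ := ne_top_of_le_ne_top (maximalIdeal.isMaximal S).ne_top
      (sup_le (le_maximalIdeal hqne) (le_maximalIdeal hbne))
    obtain ⟨δ, hδ⟩ := exists_nat_dim hne
    have hbq : ¬ b ≤ q := fun h => by
      obtain ⟨r, hr, hrq⟩ := hq.1.1.inf_le'.1 h
      have hr' := hT.mem_toFinset.1 hr
      exact hr'.2 (le_antisymm hrq (hq.2 hr'.1.1 hrq))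
    have h1 : ((δ + 1 : ℕ) : WithBot ℕ∞) ≤ ringKrullDim (S ⧸ q) := by
      refine dim_add_one_le le_sup_left (fun P hP h => ?_) hδ.ge
      haveI := hq.1.1
      have hPq : P = q := by
        rw [Ideal.minimalPrimes_eq_subsingleton_self] at hP
        exact hP
      exact hbq (hPq ▸ le_sup_right.trans h)
    have h2 : ((δ + 1 : ℕ) : WithBot ℕ∞) ≤ ringKrullDim (S ⧸ b) := by
      refine dim_add_one_le le_sup_right (fun P hP h => ?_) hδ.ge
      obtain ⟨r, hr, hrP⟩ := hP.1.1.inf_le'.1 hP.1.2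
      have hr' := hT.mem_toFinset.1 hr
      have hPr : P ≤ r := hP.2 ⟨hr'.1.1.1, Finset.inf_le (f := id) hr⟩ hrP
      exact hr'.2 (le_antisymm (hr'.1.2 hq.1 ((le_sup_left.trans h).trans hPr)) ((le_sup_left.trans h).trans hPr))
    have h3 := dim_le_of_split δ q b k n hn hqne hbne hδ h1 h2
      (cdLE_of_radical_eq (radical_eq_of_forall fun P hP => (hqb P hP).symm) hk)
    have h4 : δ + 1 ≤ e := by rw [he] at h1; exact_mod_cast h1
    omega

end Domain

omit [IsNoetherianRing R] [IsLocalRing R] in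
theorem dim_map_quotient (a q : Ideal R) :
    ringKrullDim ((R ⧸ q) ⧸ a.map (algebraMap R (R ⧸ q))) = ringKrullDim (R ⧸ (a ⊔ q)) :=
  ringKrullDim_eq_of_ringEquiv ((DoubleQuot.quotQuotEquivQuotSup q a).trans (Ideal.quotEquivOfEq (sup_comm q a)))

omit [IsNoetherianRing R] [IsLocalRing R] in
theorem dim_inf_sup_le {a b q : Ideal R} {D : WithBot ℕ∞} (ha : ringKrullDim (R ⧸ (a ⊔ q)) ≤ D)
    (hb : ringKrullDim (R ⧸ (b ⊔ q)) ≤ D) : ringKrullDim (R ⧸ (a ⊓ b ⊔ q)) ≤ D := by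
  rw [ringKrullDim_quotient, Order.krullDim]
  refine iSup_le fun l => ?_
  have h0 : a ⊓ b ⊔ q ≤ l.head.1.asIdeal := l.head.2
  have hmem : ∀ c : Ideal R, c ≤ l.head.1.asIdeal → (l.length : WithBot ℕ∞) ≤ ringKrullDim (R ⧸ (c ⊔ q)) := by
    intro c hc
    rw [ringKrullDim_quotient]
    exact Order.le_krullDim_iff.2 ⟨⟨l.length, fun i => ⟨(l i).1, (mem_zeroLocus _ _).2
      (show c ⊔ q ≤ (l i).1.asIdeal from
        (sup_le hc (le_sup_right.trans h0)).trans (l.monotone (Fin.zero_le i)))⟩, fun i => l.step i⟩, rfl⟩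
  rcases l.head.1.2.inf_le.1 (le_sup_left.trans h0) with h | h
  exacts [(hmem a h).trans ha, (hmem b h).trans hb]

variable [IsAdicComplete (maximalIdeal R) R]

theorem isAdicComplete_quotient (q : Ideal R) [IsLocalRing (R ⧸ q)] :
    IsAdicComplete (maximalIdeal (R ⧸ q)) (R ⧸ q) := by
  rw [← IsLocalRing.map_maximalIdeal_of_surjective _ (Ideal.Quotient.mk_surjective (I := q))]
  exact H24Adic.isAdicComplete_map_quotient q

/-- The connectedness bound for a complete local ring. -/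
theorem min_le_of_split (a b : Ideal R) (δ k : ℕ) (ha : a ≠ ⊤) (hb : b ≠ ⊤)
    (hab : ringKrullDim (R ⧸ (a ⊔ b)) = δ) (hda : ((δ + 1 : ℕ) : WithBot ℕ∞) ≤ ringKrullDim (R ⧸ a))
    (hdb : ((δ + 1 : ℕ) : WithBot ℕ∞) ≤ ringKrullDim (R ⧸ b)) (hk : LocCoh.CdLE R (a ⊓ b) k) :
    min (LocCoh.connDim (PrimeSpectrum R) + 1) (LocCoh.subdim (PrimeSpectrum R)) ≤
      ((k + δ + 1 : ℕ) : WithBot ℕ∞) := by
  classical
  let M := minimalPrimes R
  let A := {p ∈ M | ((δ + 1 : ℕ) : WithBot ℕ∞) ≤ ringKrullDim (R ⧸ (a ⊔ p))}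
  let B := {p ∈ M | ((δ + 1 : ℕ) : WithBot ℕ∞) ≤ ringKrullDim (R ⧸ (b ⊔ p))}
  have hsmall : ∀ {c p : Ideal R}, c ≠ ⊤ → p ≠ ⊤ → ¬ ((δ + 1 : ℕ) : WithBot ℕ∞) ≤ ringKrullDim (R ⧸ (c ⊔ p)) →
      ringKrullDim (R ⧸ (c ⊔ p)) ≤ (δ : WithBot ℕ∞) := fun {c p} hc hp h => by
    obtain ⟨f, hf⟩ := exists_nat_dim (ne_top_of_le_ne_top (maximalIdeal.isMaximal R).ne_top
      (sup_le (le_maximalIdeal hc) (le_maximalIdeal hp)))
    rw [hf] at h ⊢
    have : ¬ δ + 1 ≤ f := fun hh => h (by exact_mod_cast hh)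
    exact_mod_cast (by omega : f ≤ δ)
  have hfinish : ∀ p ∈ M, ∀ m : ℕ, ringKrullDim (R ⧸ p) = m → m ≤ k + δ + 1 →
      min (LocCoh.connDim (PrimeSpectrum R) + 1) (LocCoh.subdim (PrimeSpectrum R)) ≤
        ((k + δ + 1 : ℕ) : WithBot ℕ∞) := fun p hp m hm hle =>
    (min_le_right _ _).trans ((subdim_le_dim_quotient hp).trans (hm.le.trans (by exact_mod_cast hle)))
  by_cases hboth : ∃ p, p ∈ A ∧ p ∈ B
  · obtain ⟨p, ⟨hp, hpA⟩, -, hpB⟩ := hboth
    haveI := hp.1.1
    haveI : IsLocalRing (R ⧸ p) := IsLocalRing.of_surjective' _ Ideal.Quotient.mk_surjective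
    haveI := isAdicComplete_quotient p
    obtain ⟨m, hm⟩ := exists_nat_dim hp.1.1.ne_top
    have hmap : ∀ c : Ideal R, c ≠ ⊤ → c.map (algebraMap R (R ⧸ p)) ≠ ⊤ := fun c hc =>
      ne_top_of_le_ne_top (maximalIdeal.isMaximal (R ⧸ p)).ne_top ((Ideal.map_mono (le_maximalIdeal hc)).trans
        (IsLocalRing.map_maximalIdeal_of_surjective _ (Ideal.Quotient.mk_surjective (I := p))).le)
    have hne : a.map (algebraMap R (R ⧸ p)) ⊔ b.map (algebraMap R (R ⧸ p)) ≠ ⊤ := by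
      rw [← Ideal.map_sup]
      exact hmap _ (ne_top_of_le_ne_top (maximalIdeal.isMaximal R).ne_top
        (sup_le (le_maximalIdeal ha) (le_maximalIdeal hb)))
    obtain ⟨δ', hδ'⟩ := exists_nat_dim hne
    have hle : δ' ≤ δ := by
      have : ringKrullDim ((R ⧸ p) ⧸ (a.map (algebraMap R (R ⧸ p)) ⊔ b.map (algebraMap R (R ⧸ p)))) ≤
          ringKrullDim (R ⧸ (a ⊔ b)) := by
        rw [← Ideal.map_sup, dim_map_quotient]
        exact dim_quotient_mono le_sup_left
      rw [hδ', hab] at this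
      exact_mod_cast this
    have hcd : LocCoh.CdLE (R ⧸ p) (a.map (algebraMap R (R ⧸ p)) ⊓ b.map (algebraMap R (R ⧸ p))) k := by
      refine cdLE_of_radical_eq (radical_eq_of_forall fun P hP => ?_) (cdLE_quotient hk p)
      rw [hP.inf_le, Ideal.map_le_iff_le_comap, Ideal.map_le_iff_le_comap, Ideal.map_le_iff_le_comap,
        (Ideal.IsPrime.comap (algebraMap R (R ⧸ p))).inf_le]
    have h1 : ∀ c : Ideal R, ((δ + 1 : ℕ) : WithBot ℕ∞) ≤ ringKrullDim (R ⧸ (c ⊔ p)) →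
        ((δ' + 1 : ℕ) : WithBot ℕ∞) ≤ ringKrullDim ((R ⧸ p) ⧸ c.map (algebraMap R (R ⧸ p))) := fun c hc => by
      rw [dim_map_quotient]
      exact le_trans (by exact_mod_cast Nat.add_le_add_right hle 1) hc
    have h2 := dim_le_of_split δ' _ _ k m hm (hmap a ha) (hmap b hb) hδ' (h1 a hpA) (h1 b hpB) hcd
    exact hfinish p hp m hm (by omega)
  by_cases hnone : ∃ p ∈ M, p ∉ A ∧ p ∉ B
  · obtain ⟨p, hp, hpA, hpB⟩ := hnone
    haveI := hp.1.1
    haveI : IsLocalRing (R ⧸ p) := IsLocalRing.of_surjective' _ Ideal.Quotient.mk_surjective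
    obtain ⟨m, hm⟩ := exists_nat_dim hp.1.1.ne_top
    have h1 := dim_inf_sup_le (hsmall ha hp.1.1.ne_top fun h => hpA ⟨hp, h⟩)
      (hsmall hb hp.1.1.ne_top fun h => hpB ⟨hp, h⟩)
    rw [← dim_map_quotient] at h1
    have h2 := dim_le_cd_add_dim_quotient δ _ k m h1 ?_ hm (cdLE_quotient hk p)
    · exact hfinish p hp m hm (by omega)
    · exact ne_top_of_le_ne_top (maximalIdeal.isMaximal (R ⧸ p)).ne_top
        ((Ideal.map_mono (inf_le_left.trans (le_maximalIdeal ha))).trans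
          (IsLocalRing.map_maximalIdeal_of_surjective _ (Ideal.Quotient.mk_surjective (I := p))).le)
  push Not at hboth hnone
  -- the minimal primes are partitioned
  have hMfin : M.Finite := minimalPrimes.finite_of_isNoetherianRing R
  have hAfin : A.Finite := hMfin.subset fun p hp => hp.1
  have hBfin : B.Finite := hMfin.subset fun p hp => hp.1
  let aA := hAfin.toFinset.inf id
  let bB := hBfin.toFinset.inf id
  have hcover : ∀ P : Ideal R, P.IsPrime → ∃ p ∈ M, p ≤ P := fun P hP => by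
    haveI := hP
    exact Ideal.exists_minimalPrimes_le (I := (⊥ : Ideal R)) (J := P) bot_le
  obtain ⟨pA, hpA, hpA'⟩ := le_dim_sup_of_le_minimal a hda M fun P hP _ => hcover P hP
  obtain ⟨pB, hpB, hpB'⟩ := le_dim_sup_of_le_minimal b hdb M fun P hP _ => hcover P hP
  have hle : ∀ {F : Finset (Ideal R)} {P : Ideal R}, P.IsPrime → (F.inf id ≤ P ↔ ∃ r ∈ F, r ≤ P) :=
    fun hP => hP.inf_le'
  have hor : ∀ P : Ideal R, P.IsPrime → aA ≤ P ∨ bB ≤ P := fun P hP => by
    obtain ⟨p, hp, hpP⟩ := hcover P hP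
    by_cases h : p ∈ A
    · exact Or.inl ((hle hP).2 ⟨p, hAfin.mem_toFinset.2 h, hpP⟩)
    · exact Or.inr ((hle hP).2 ⟨p, hBfin.mem_toFinset.2 (hnone p hp h), hpP⟩)
  have hnA : ¬ aA ≤ pB := fun h => by
    obtain ⟨r, hr, hrp⟩ := (hle hpB.1.1).1 h
    have hr' := hAfin.mem_toFinset.1 hr
    exact hboth r hr' ((le_antisymm hrp (hpB.2 hr'.1.1 hrp)) ▸ ⟨hpB, hpB'⟩)
  have hnB : ¬ bB ≤ pA := fun h => by
    obtain ⟨r, hr, hrp⟩ := (hle hpA.1.1).1 h
    have hr' := hBfin.mem_toFinset.1 hr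
    exact hboth r ((le_antisymm hrp (hpA.2 hr'.1.1 hrp)) ▸ ⟨hpA, hpA'⟩) hr'
  have hconn := connDim_le_dim_sup hor ⟨pB, hpB.1.1, hnA⟩ ⟨pA, hpA.1.1, hnB⟩
  have hne : aA ⊔ bB ≠ ⊤ := ne_top_of_le_ne_top (maximalIdeal.isMaximal R).ne_top (sup_le
    ((Finset.inf_le (f := id) (hAfin.mem_toFinset.2 ⟨hpA, hpA'⟩)).trans (le_maximalIdeal hpA.1.1.ne_top))
    ((Finset.inf_le (f := id) (hBfin.mem_toFinset.2 ⟨hpB, hpB'⟩)).trans (le_maximalIdeal hpB.1.1.ne_top)))
  obtain ⟨D, hD⟩ := exists_nat_dim hne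
  -- a prime realising the dimension
  obtain ⟨q, hq, hqD⟩ := le_dim_sup_of_le_minimal (aA ⊔ bB) hD.ge (aA ⊔ bB).minimalPrimes
    fun P hP h => by haveI := hP; exact Ideal.exists_minimalPrimes_le h
  rw [sup_eq_right.2 hq.1.2] at hqD
  haveI := hq.1.1
  obtain ⟨i, hi, hiq⟩ := (hle hq.1.1).1 (le_sup_left.trans hq.1.2)
  obtain ⟨j, hj, hjq⟩ := (hle hq.1.1).1 (le_sup_right.trans hq.1.2)
  have hi' := hAfin.mem_toFinset.1 hi
  have hj' := hBfin.mem_toFinset.1 hj
  have h1 := dim_inf_sup_le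
    ((dim_quotient_mono (sup_le_sup le_rfl hjq)).trans
      (hsmall ha hj'.1.1.1.ne_top fun h => hboth j ⟨hj'.1, h⟩ hj'))
    ((dim_quotient_mono (sup_le_sup le_rfl hiq)).trans
      (hsmall hb hi'.1.1.1.ne_top fun h => hboth i hi' ⟨hi'.1, h⟩))
  rw [← dim_map_quotient] at h1
  haveI : IsLocalRing (R ⧸ q) := IsLocalRing.of_surjective' _ Ideal.Quotient.mk_surjective
  obtain ⟨m, hm⟩ := exists_nat_dim hq.1.1.ne_top
  have h2 := dim_le_cd_add_dim_quotient δ _ k m h1 ?_ hm (cdLE_quotient hk q)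
  swap
  · exact ne_top_of_le_ne_top (maximalIdeal.isMaximal (R ⧸ q)).ne_top
      ((Ideal.map_mono (inf_le_left.trans (le_maximalIdeal ha))).trans
        (IsLocalRing.map_maximalIdeal_of_surjective _ (Ideal.Quotient.mk_surjective (I := q))).le)
  rw [hm] at hqD
  have h3 : D ≤ m := by exact_mod_cast hqD
  refine (min_le_left _ _).trans ((add_le_add (hconn.trans hD.le) le_rfl).trans ?_)
  exact_mod_cast (by omega : D + 1 ≤ k + δ + 1)

/-- The connectedness bound for a quotient. -/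
theorem min_le_connDim_quotient (a : Ideal R) (ha : a ≠ ⊤) (k : ℕ) (hk : LocCoh.CdLE R a k) :
    min (LocCoh.connDim (PrimeSpectrum R) + 1) (LocCoh.subdim (PrimeSpectrum R)) ≤
      LocCoh.connDim (PrimeSpectrum (R ⧸ a)) + (k : WithBot ℕ∞) + 1 := by
  classical
  haveI : Nontrivial (R ⧸ a) := Ideal.Quotient.nontrivial_iff.2 ha
  haveI : IsLocalRing (R ⧸ a) := IsLocalRing.of_surjective' _ Ideal.Quotient.mk_surjective
  obtain ⟨Z, hZ, hconn, he⟩ := exists_connDim (PrimeSpectrum (R ⧸ a))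
  let z : Ideal R := (vanishingIdeal Z).comap (Ideal.Quotient.mk a)
  have hzdim : ringKrullDim (R ⧸ z) = topologicalKrullDim Z := by
    rw [← hZ.closure_eq, ← zeroLocus_vanishingIdeal_eq_closure, dim_zeroLocus]
    exact ringKrullDim_eq_of_ringEquiv ((Ideal.quotEquivOfEq (show z = RingHom.ker ((Ideal.Quotient.mk
      (vanishingIdeal Z)).comp (Ideal.Quotient.mk a)) by rw [← RingHom.comap_ker, Ideal.mk_ker])).trans
      (RingHom.quotientKerEquivOfSurjective (Ideal.Quotient.mk_surjective.comp Ideal.Quotient.mk_surjective)))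
  have hzne : z ≠ ⊤ := fun h => by
    have h0 := zero_le_connDim (R := R ⧸ a)
    rw [he, ← hzdim, h] at h0
    haveI : Subsingleton (R ⧸ (⊤ : Ideal R)) := Ideal.Quotient.subsingleton_iff.2 rfl
    rw [ringKrullDim_eq_bot_of_subsingleton] at h0
    exact absurd h0 (by decide)
  obtain ⟨δ, hδ⟩ := exists_nat_dim hzne
  rw [he, ← hzdim, hδ]
  have hgoal : ((k + δ + 1 : ℕ) : WithBot ℕ∞) = (δ : WithBot ℕ∞) + (k : WithBot ℕ∞) + 1 := by
    push_cast
    rw [add_comm (k : WithBot ℕ∞) (δ : WithBot ℕ∞)]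
  rw [← hgoal]
  -- bound from a minimal prime `q` of `a`
  have hsmall : ∀ q ∈ a.minimalPrimes, ringKrullDim (R ⧸ q) ≤ (δ : WithBot ℕ∞) →
      min (LocCoh.connDim (PrimeSpectrum R) + 1) (LocCoh.subdim (PrimeSpectrum R)) ≤
        ((k + δ + 1 : ℕ) : WithBot ℕ∞) := by
    intro q hq hqδ
    haveI := hq.1.1
    obtain ⟨p, hp, hpq⟩ := Ideal.exists_minimalPrimes_le (I := (⊥ : Ideal R)) (J := q) bot_le
    haveI := hp.1.1
    haveI : IsLocalRing (R ⧸ p) := IsLocalRing.of_surjective' _ Ideal.Quotient.mk_surjective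
    haveI := isAdicComplete_quotient p
    obtain ⟨m, hm⟩ := exists_nat_dim hp.1.1.ne_top
    obtain ⟨e, he'⟩ := exists_nat_dim hq.1.1.ne_top
    have hcomap : ∀ r : Ideal (R ⧸ p), (r.comap (Ideal.Quotient.mk p)).map (Ideal.Quotient.mk p) = r :=
      fun r => Ideal.map_comap_of_surjective _ Ideal.Quotient.mk_surjective r
    have hqq : q.map (algebraMap R (R ⧸ p)) ∈ (a.map (algebraMap R (R ⧸ p))).minimalPrimes := by
      refine ⟨⟨Ideal.isPrime_map_quotientMk_of_isPrime hpq, Ideal.map_mono hq.1.2⟩, fun r hr hrq => ?_⟩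
      haveI := hr.1
      have h1 : r.comap (Ideal.Quotient.mk p) ≤ q := by
        refine (Ideal.comap_mono hrq).trans ?_
        rw [Ideal.Quotient.algebraMap_eq, Ideal.comap_map_of_surjective' _ Ideal.Quotient.mk_surjective, Ideal.mk_ker]
        exact sup_le le_rfl hpq
      have h2 := hq.2 ⟨Ideal.IsPrime.comap _, Ideal.map_le_iff_le_comap.1 hr.2⟩ h1
      exact (Ideal.map_mono h2).trans (hcomap r).le
    have hdim : ringKrullDim ((R ⧸ p) ⧸ q.map (algebraMap R (R ⧸ p))) = e := by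
      rw [dim_map_quotient, sup_eq_left.2 hpq]
      exact he'
    have h1 := dim_le_of_minimalPrime _ _ hqq k m e hm hdim (cdLE_quotient hk p)
    rw [he'] at hqδ
    have h2 : e ≤ δ := by exact_mod_cast hqδ
    exact (min_le_right _ _).trans ((subdim_le_dim_quotient hp).trans (hm.le.trans
      (by exact_mod_cast (by omega : m ≤ k + δ + 1))))
  have hmk : ∀ {x : PrimeSpectrum (R ⧸ a)}, a ≤ x.asIdeal.comap (Ideal.Quotient.mk a) := fun {x} y hy => by
    rw [Ideal.mem_comap, Ideal.Quotient.eq_zero_iff_mem.2 hy]; exact zero_mem _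
  rcases exists_split hZ hconn with rfl | ⟨F₁, F₂, h₁, h₂, hu, hi, n₁, n₂⟩
  · -- the whole space
    obtain ⟨q, hq⟩ := Ideal.nonempty_minimalPrimes (I := a) ha
    refine hsmall q hq ((dim_quotient_mono (show z ≤ q from ?_)).trans hδ.le)
    haveI := hq.1.1
    intro y hy
    have h1 := (mem_vanishingIdeal _ _).1 hy
      ⟨q.map (Ideal.Quotient.mk a), Ideal.isPrime_map_quotientMk_of_isPrime hq.1.2⟩ trivial
    have h2 : y ∈ (q.map (Ideal.Quotient.mk a)).comap (Ideal.Quotient.mk a) := h1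
    rwa [Ideal.comap_map_of_surjective' _ Ideal.Quotient.mk_surjective, Ideal.mk_ker, sup_eq_left.2 hq.1.2] at h2
  · let a' : Ideal R := (vanishingIdeal F₁).comap (Ideal.Quotient.mk a)
    let b' : Ideal R := (vanishingIdeal F₂).comap (Ideal.Quotient.mk a)
    have hmem : ∀ {F : Set (PrimeSpectrum (R ⧸ a))}, IsClosed F → ∀ {P : PrimeSpectrum (R ⧸ a)},
        (vanishingIdeal F ≤ P.asIdeal ↔ P ∈ F) := fun hF P => by
      constructor
      · intro h
        rename_i F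
        have : P ∈ zeroLocus ((vanishingIdeal F : Ideal (R ⧸ a)) : Set (R ⧸ a)) := h
        rwa [zeroLocus_vanishingIdeal_eq_closure, hF.closure_eq] at this
      · exact fun h x hx => (mem_vanishingIdeal _ _).1 hx P h
    have hprime : ∀ {P : Ideal R}, P.IsPrime → a ≤ P → ∃ x : PrimeSpectrum (R ⧸ a),
        x.asIdeal.comap (Ideal.Quotient.mk a) = P := fun {P} hP haP => by
      haveI := hP
      refine ⟨⟨P.map (Ideal.Quotient.mk a), Ideal.isPrime_map_quotientMk_of_isPrime haP⟩, ?_⟩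
      rw [Ideal.comap_map_of_surjective' _ Ideal.Quotient.mk_surjective, Ideal.mk_ker, sup_eq_left.2 haP]
    have hiff : ∀ {F : Set (PrimeSpectrum (R ⧸ a))}, IsClosed F → ∀ {x : PrimeSpectrum (R ⧸ a)},
        ((vanishingIdeal F).comap (Ideal.Quotient.mk a) ≤ x.asIdeal.comap (Ideal.Quotient.mk a) ↔ x ∈ F) :=
      fun hF x => (Ideal.comap_le_comap_iff_of_surjective _ Ideal.Quotient.mk_surjective _ _).trans (hmem hF)
    have hale : ∀ F : Set (PrimeSpectrum (R ⧸ a)), a ≤ (vanishingIdeal F).comap (Ideal.Quotient.mk a) :=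
      fun F y hy => by rw [Ideal.mem_comap, Ideal.Quotient.eq_zero_iff_mem.2 hy]; exact zero_mem _
    have hnot : ∀ {F G : Set (PrimeSpectrum (R ⧸ a))}, IsClosed F → IsClosed G → F ≠ Set.univ → F ∪ G = Set.univ →
        ∃ q ∈ a.minimalPrimes, (vanishingIdeal G).comap (Ideal.Quotient.mk a) ≤ q := by
      intro F G hF hG hne hu
      obtain ⟨x, hx⟩ := (Set.ne_univ_iff_exists_notMem _).1 hne
      obtain ⟨q, hq, hqx⟩ := Ideal.exists_minimalPrimes_le (J := x.asIdeal.comap (Ideal.Quotient.mk a)) hmk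
      obtain ⟨y, hy⟩ := hprime hq.1.1 hq.1.2
      have hyF : y ∉ F := fun h => hx ((hmem hF).1 (((hmem hF).2 h).trans
        ((Ideal.comap_le_comap_iff_of_surjective _ Ideal.Quotient.mk_surjective _ _).1 (hy.le.trans hqx))))
      refine ⟨q, hq, hy ▸ (hiff hG).2 ((hu.symm ▸ Set.mem_univ y : y ∈ F ∪ G).resolve_left hyF)⟩
    obtain ⟨q₂, hq₂, hq₂'⟩ := hnot h₁ h₂ n₁ hu
    obtain ⟨q₁, hq₁, hq₁'⟩ := hnot h₂ h₁ n₂ ((Set.union_comm _ _).trans hu)
    by_cases hsA : ((δ + 1 : ℕ) : WithBot ℕ∞) ≤ ringKrullDim (R ⧸ a')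
    swap
    · refine hsmall q₁ hq₁ ((dim_quotient_mono hq₁').trans ?_)
      obtain ⟨f, hf⟩ := exists_nat_dim (ne_top_of_le_ne_top hq₁.1.1.ne_top hq₁')
      rw [hf] at hsA ⊢
      have : ¬ δ + 1 ≤ f := fun hh => hsA (by exact_mod_cast hh)
      exact_mod_cast (by omega : f ≤ δ)
    by_cases hsB : ((δ + 1 : ℕ) : WithBot ℕ∞) ≤ ringKrullDim (R ⧸ b')
    swap
    · refine hsmall q₂ hq₂ ((dim_quotient_mono hq₂').trans ?_)
      obtain ⟨f, hf⟩ := exists_nat_dim (ne_top_of_le_ne_top hq₂.1.1.ne_top hq₂')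
      rw [hf] at hsB ⊢
      have : ¬ δ + 1 ≤ f := fun hh => hsB (by exact_mod_cast hh)
      exact_mod_cast (by omega : f ≤ δ)
    have hrad : a.radical = (a' ⊓ b').radical := radical_eq_of_forall fun P hP => by
      constructor
      · intro haP
        obtain ⟨x, hx⟩ := hprime hP haP
        rw [hP.inf_le, ← hx]
        exact ((hu.symm ▸ Set.mem_univ x : x ∈ F₁ ∪ F₂)).imp (hiff h₁).2 (hiff h₂).2
      · exact fun h => (le_inf (hale F₁) (hale F₂)).trans h
    have hdim : ringKrullDim (R ⧸ (a' ⊔ b')) = δ := by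
      have hzl : ∀ x : PrimeSpectrum R, a' ⊔ b' ≤ x.asIdeal ↔ z ≤ x.asIdeal := fun x => by
        constructor
        · intro hx
          obtain ⟨y, hy⟩ := hprime x.2 ((hale F₁).trans (le_sup_left.trans hx))
          rw [← hy] at hx ⊢
          refine (hiff hZ).2 ?_
          rw [← hi]
          exact ⟨(hiff h₁).1 (le_sup_left.trans hx), (hiff h₂).1 (le_sup_right.trans hx)⟩
        · intro hx
          obtain ⟨y, hy⟩ := hprime x.2 ((hale Z).trans hx)
          rw [← hy] at hx ⊢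
          have hyZ := (hiff hZ).1 hx
          rw [← hi] at hyZ
          exact sup_le ((hiff h₁).2 hyZ.1) ((hiff h₂).2 hyZ.2)
      rw [← hδ, ← dim_zeroLocus, ← dim_zeroLocus]
      rw [show zeroLocus ((a' ⊔ b' : Ideal R) : Set R) = zeroLocus (z : Set R) from Set.ext hzl]
    exact min_le_of_split a' b' δ k (ne_top_of_le_ne_top hq₁.1.1.ne_top hq₁')
      (ne_top_of_le_ne_top hq₂.1.1.ne_top hq₂') hdim hsA hsB (cdLE_of_radical_eq hrad hk)

end Groth.Agent.H4Conn
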