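import Groth.Agent.H4Conn.Top
import Groth.Agent.H05EGA4.Regular2
import Mathlib.RingTheory.KrullDimension.NonZeroDivisors
import Mathlib.RingTheory.Ideal.KrullsHeightTheorem
import Mathlib.RingTheory.Spectrum.Prime.Topology

/-!
# Connectedness dimension of prime spectra
-/

set_option autoImplicit false
set_option linter.style.haveILetI false

universe u

open IsLocalRing PrimeSpectrum TopologicalSpace

namespace Groth.Agent.H4Conn

variable {R : Type u} [CommRing R]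

/-- The dimension of a closed subset of a spectrum. -/
theorem dim_zeroLocus (J : Ideal R) :
    topologicalKrullDim (zeroLocus (J : Set R)) = ringKrullDim (R ⧸ J) := by
  have hemb := (isClosedEmbedding_comap_of_surjective _ (Ideal.Quotient.mk J) Ideal.Quotient.mk_surjective).isEmbedding
  have hrange : Set.range (PrimeSpectrum.comap (Ideal.Quotient.mk J)) = zeroLocus (J : Set R) := by
    rw [range_comap_of_surjective _ _ Ideal.Quotient.mk_surjective, Ideal.mk_ker]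
  rw [← PrimeSpectrum.topologicalKrullDim_eq_ringKrullDim]
  exact (IsHomeomorph.topologicalKrullDim_eq _
    ((hemb.toHomeomorph.trans (Homeomorph.setCongr hrange)).isHomeomorph)).symm

theorem subdim_le_dim_quotient {p : Ideal R} (hp : p ∈ minimalPrimes R) :
    LocCoh.subdim (PrimeSpectrum R) ≤ ringKrullDim (R ⧸ p) := by
  refine (subdim_le ?_).trans (dim_zeroLocus p).le
  rw [zeroLocus_ideal_mem_irreducibleComponents, hp.1.1.radical]
  exact hp

/-- Every prime above `J` contains one of finitely many. -/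
theorem prime_mem_sup_of_union {a b : Ideal R} (h : ∀ P : Ideal R, P.IsPrime → a ≤ P ∨ b ≤ P) :
    zeroLocus (a : Set R) ∪ zeroLocus (b : Set R) = Set.univ :=
  Set.eq_univ_of_forall fun x => (h x.asIdeal x.2).imp (fun h => h) fun h => h

theorem connDim_le_dim_sup {a b : Ideal R} (h : ∀ P : Ideal R, P.IsPrime → a ≤ P ∨ b ≤ P)
    (ha : ∃ P : Ideal R, P.IsPrime ∧ ¬ a ≤ P) (hb : ∃ P : Ideal R, P.IsPrime ∧ ¬ b ≤ P) :
    LocCoh.connDim (PrimeSpectrum R) ≤ ringKrullDim (R ⧸ (a ⊔ b)) := by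
  rw [← dim_zeroLocus, zeroLocus_sup]
  obtain ⟨P, hP, haP⟩ := ha
  obtain ⟨Q, hQ, hbQ⟩ := hb
  exact connDim_le ((isClosed_zeroLocus _).inter (isClosed_zeroLocus _))
    (not_isConnected_compl_inter (isClosed_zeroLocus _) (isClosed_zeroLocus _) (prime_mem_sup_of_union h)
      (fun e => haP (show (⟨P, hP⟩ : PrimeSpectrum R) ∈ zeroLocus (a : Set R) from e ▸ Set.mem_univ _))
      (fun e => hbQ (show (⟨Q, hQ⟩ : PrimeSpectrum R) ∈ zeroLocus (b : Set R) from e ▸ Set.mem_univ _)))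

/-- The spectrum of a local ring is connected in dimension zero. -/
theorem zero_le_connDim [IsLocalRing R] : (0 : WithBot ℕ∞) ≤ LocCoh.connDim (PrimeSpectrum R) := by
  obtain ⟨Z, hZ, hconn, he⟩ := exists_connDim (PrimeSpectrum R)
  rw [he]
  obtain ⟨J, rfl⟩ : ∃ J : Ideal R, Z = zeroLocus (J : Set R) := ⟨_, by
    rw [zeroLocus_vanishingIdeal_eq_closure, hZ.closure_eq]⟩
  rw [dim_zeroLocus]
  have : Nontrivial (R ⧸ J) := by
    refine Ideal.Quotient.nontrivial_iff.2 fun htop => hconn ?_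
    subst htop
    rw [Submodule.top_coe, zeroLocus_univ, Set.compl_empty]
    refine ⟨⟨closedPoint R, trivial⟩, fun U V hU hV hUV ⟨x, _, hx⟩ ⟨y, _, hy⟩ => ?_⟩
    rcases hUV (Set.mem_univ (closedPoint R)) with h | h
    · exact ⟨y, trivial, (specializes_closedPoint y).mem_open hU h, hy⟩
    · exact ⟨x, trivial, hx, (specializes_closedPoint x).mem_open hV h⟩
  exact ringKrullDim_nonneg_of_nontrivial

theorem dim_quotient_mono {I J : Ideal R} (h : I ≤ J) : ringKrullDim (R ⧸ J) ≤ ringKrullDim (R ⧸ I) :=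
  ringKrullDim_le_of_surjective (Ideal.Quotient.factor h) (Ideal.Quotient.factor_surjective h)

theorem le_dim_sup_of_le_minimal (J : Ideal R) {n : ℕ} (hn : (n : WithBot ℕ∞) ≤ ringKrullDim (R ⧸ J))
    (S : Set (Ideal R)) (hS : ∀ P : Ideal R, P.IsPrime → J ≤ P → ∃ p ∈ S, p ≤ P) :
    ∃ p ∈ S, (n : WithBot ℕ∞) ≤ ringKrullDim (R ⧸ (J ⊔ p)) := by
  rw [ringKrullDim_quotient] at hn
  obtain ⟨l, hl⟩ := Order.le_krullDim_iff.1 hn
  obtain ⟨p, hp, hpl⟩ := hS l.head.1.asIdeal l.head.1.2 l.head.2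
  refine ⟨p, hp, ?_⟩
  rw [ringKrullDim_quotient]
  refine Order.le_krullDim_iff.2 ⟨⟨l.length, fun i => ⟨(l i).1,
    (mem_zeroLocus _ _).2 (show J ⊔ p ≤ (l i).1.asIdeal from sup_le ((mem_zeroLocus _ _).1 (l i).2) (hpl.trans (l.monotone (Fin.zero_le i))))⟩,
    fun i => l.step i⟩, hl⟩

/-- If no minimal prime of `J` contains `J'`, the dimension drops. -/
theorem dim_add_one_le {J J' : Ideal R} (hJ : J ≤ J') (h : ∀ q ∈ J.minimalPrimes, ¬ J' ≤ q) {n : ℕ}
    (hn : (n : WithBot ℕ∞) ≤ ringKrullDim (R ⧸ J')) : ((n + 1 : ℕ) : WithBot ℕ∞) ≤ ringKrullDim (R ⧸ J) := by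
  rw [ringKrullDim_quotient] at hn ⊢
  obtain ⟨l, hl⟩ := Order.le_krullDim_iff.1 hn
  obtain ⟨q, hq, hql⟩ := Ideal.exists_minimalPrimes_le (I := J) (J := l.head.1.asIdeal) (hJ.trans l.head.2)
  let l' : LTSeries (zeroLocus (J : Set R)) :=
    l.map (fun x => ⟨x.1, (mem_zeroLocus _ _).2 (hJ.trans x.2)⟩) (fun _ _ h => h)
  let q' : zeroLocus (J : Set R) := ⟨⟨q, hq.1.1⟩, hq.1.2⟩
  have hlt : q' < l'.head := lt_of_le_of_ne hql fun e => h q hq (by
    have he : q = l.head.1.asIdeal := congrArg (fun x : zeroLocus (J : Set R) => x.1.asIdeal) e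
    exact he ▸ l.head.2)
  refine Order.le_krullDim_iff.2 ⟨l'.cons q' hlt, ?_⟩
  rw [RelSeries.cons_length]
  exact congrArg (· + 1) hl

theorem dim_lt_of_forall {J J' : Ideal R} (hJ : J ≤ J') (h : ∀ q ∈ J.minimalPrimes, ¬ J' ≤ q) {n : ℕ}
    (hn : ringKrullDim (R ⧸ J') = n) : (n : WithBot ℕ∞) < ringKrullDim (R ⧸ J) :=
  lt_of_lt_of_le (by exact_mod_cast Nat.lt_succ_self n) (dim_add_one_le hJ h hn.ge)

variable [IsLocalRing R] [IsNoetherianRing R]

theorem exists_nat_dim {J : Ideal R} (hJ : J ≠ ⊤) : ∃ n : ℕ, ringKrullDim (R ⧸ J) = n := by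
  haveI : Nontrivial (R ⧸ J) := Ideal.Quotient.nontrivial_iff.2 hJ
  haveI : IsLocalRing (R ⧸ J) := IsLocalRing.of_surjective' _ Ideal.Quotient.mk_surjective
  exact H05EGA4.exists_dim_eq_nat (R ⧸ J)

theorem dim_le_sup_span_add_one (J : Ideal R) {y : R} (hy : y ∈ maximalIdeal R) :
    ringKrullDim (R ⧸ J) ≤ ringKrullDim (R ⧸ (J ⊔ Ideal.span {y})) + 1 := by
  by_cases hJ : J = ⊤
  · subst hJ
    haveI : Subsingleton (R ⧸ (⊤ : Ideal R)) := Ideal.Quotient.subsingleton_iff.2 rfl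
    rw [ringKrullDim_eq_bot_of_subsingleton (R := R ⧸ (⊤ : Ideal R))]
    exact bot_le
  haveI : Nontrivial (R ⧸ J) := Ideal.Quotient.nontrivial_iff.2 hJ
  haveI : IsLocalRing (R ⧸ J) := IsLocalRing.of_surjective' _ Ideal.Quotient.mk_surjective
  refine (ringKrullDim_le_ringKrullDim_quotient_add_card {Ideal.Quotient.mk J y} ?_).trans ?_
  · rw [Finset.coe_singleton, Set.singleton_subset_iff, SetLike.mem_coe, IsLocalRing.ringJacobson_eq_maximalIdeal,
      ← IsLocalRing.map_maximalIdeal_of_surjective _ (Ideal.Quotient.mk_surjective (I := J))]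
    exact Ideal.mem_map_of_mem _ hy
  · rw [Finset.card_singleton, Nat.cast_one, Finset.coe_singleton]
    refine add_le_add (le_of_eq (ringKrullDim_eq_of_ringEquiv ?_)) le_rfl
    exact (Ideal.quotEquivOfEq (by rw [Ideal.map_span, Set.image_singleton])).trans
      (DoubleQuot.quotQuotEquivQuotSup J (Ideal.span {y}))

/-- An element of the maximal ideal avoiding finitely many smaller primes. -/
theorem exists_mem_maximalIdeal_forall_notMem {S : Set (Ideal R)} (hS : S.Finite)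
    (hp : ∀ q ∈ S, q.IsPrime) (hne : ∀ q ∈ S, q ≠ maximalIdeal R) :
    ∃ y ∈ maximalIdeal R, ∀ q ∈ S, y ∉ q := by
  by_contra hcon
  push Not at hcon
  have hsub : (maximalIdeal R : Set R) ⊆ ⋃ Q ∈ (hS.toFinset : Set (Ideal R)), (Q : Set R) := fun y hy => by
    obtain ⟨Q, hQ, hyQ⟩ := hcon y hy
    exact Set.mem_biUnion (hS.mem_toFinset.mpr hQ) hyQ
  obtain ⟨Q, hQ, hmQ⟩ := (Ideal.subset_union_prime ⊥ ⊥
    (fun Q hQ _ _ => hp Q (hS.mem_toFinset.mp hQ))).mp hsub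
  rw [hS.mem_toFinset] at hQ
  exact hne Q hQ (((maximalIdeal.isMaximal R).eq_of_le (hp Q hQ).ne_top hmQ).symm)

theorem minimalPrime_ne_maximalIdeal {J q : Ideal R} (hq : q ∈ J.minimalPrimes) {n : ℕ}
    (hn : ((n + 1 : ℕ) : WithBot ℕ∞) ≤ ringKrullDim (R ⧸ J)) : q ≠ maximalIdeal R := by
  rintro rfl
  rw [ringKrullDim_quotient] at hn
  obtain ⟨l, hl⟩ := Order.le_krullDim_iff.1 hn
  have h1 : l.head < l ⟨1, by omega⟩ :=
    l.strictMono (show (0 : Fin (l.length + 1)) < ⟨1, by omega⟩ from Nat.zero_lt_one)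
  have h2 : maximalIdeal R ≤ l.head.1.asIdeal :=
    hq.2 ⟨l.head.1.2, l.head.2⟩ (le_maximalIdeal l.head.1.2.ne_top)
  exact (not_le_of_gt (show l.head.1.asIdeal < (l ⟨1, by omega⟩).1.asIdeal from h1))
    ((le_maximalIdeal (l ⟨1, by omega⟩).1.2.ne_top).trans h2)

theorem connDim_ne_bot : LocCoh.connDim (PrimeSpectrum R) ≠ ⊥ := fun h => by
  have := zero_le_connDim (R := R)
  rw [h] at this
  exact absurd this (by decide)

omit [IsLocalRing R] [IsNoetherianRing R] in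
theorem not_irreducibleSpace (h : (minimalPrimes R).Nontrivial) : ¬ IrreducibleSpace (PrimeSpectrum R) := by
  intro hirr
  obtain ⟨p, hp, q, hq, hne⟩ := h
  have h1 := irreducibleComponents_eq_singleton (X := PrimeSpectrum R)
  have hp' : zeroLocus (p : Set R) = Set.univ := by
    have : zeroLocus (p : Set R) ∈ irreducibleComponents (PrimeSpectrum R) := by
      rw [zeroLocus_ideal_mem_irreducibleComponents, hp.1.1.radical]; exact hp
    rwa [h1] at this
  have hpq : (⟨q, hq.1.1⟩ : PrimeSpectrum R) ∈ zeroLocus (p : Set R) := hp' ▸ Set.mem_univ _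
  exact hne (le_antisymm hpq (hq.2 ⟨hp.1.1, bot_le⟩ hpq))

/-- Two minimal primes. -/
theorem connDim_eq_of_two {p q : Ideal R} (hpq : p ≠ q) (hmin : minimalPrimes R = {p, q}) :
    LocCoh.connDim (PrimeSpectrum R) = ringKrullDim (R ⧸ (p ⊔ q)) := by
  have hp : p ∈ minimalPrimes R := by rw [hmin]; exact Or.inl rfl
  have hq : q ∈ minimalPrimes R := by rw [hmin]; exact Or.inr rfl
  have hor : ∀ P : Ideal R, P.IsPrime → p ≤ P ∨ q ≤ P := fun P hP => by
    obtain ⟨r, hr, hrP⟩ := Ideal.exists_minimalPrimes_le (I := (⊥ : Ideal R)) (J := P) bot_le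
    rcases (hmin ▸ hr : r ∈ ({p, q} : Set (Ideal R))) with rfl | rfl
    exacts [Or.inl hrP, Or.inr hrP]
  refine le_antisymm (connDim_le_dim_sup hor ⟨q, hq.1.1, fun h => hpq (le_antisymm h (hq.2 ⟨hp.1.1, bot_le⟩ h))⟩
    ⟨p, hp.1.1, fun h => hpq (le_antisymm (hp.2 ⟨hq.1.1, bot_le⟩ h) h)⟩) ?_
  obtain ⟨Z, hZ, hconn, he⟩ := exists_connDim (PrimeSpectrum R)
  rw [he, ← dim_zeroLocus]
  refine topologicalKrullDim_mono ?_
  rcases exists_split hZ hconn with rfl | ⟨F₁, F₂, h₁, h₂, hu, hi, n₁, n₂⟩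
  · exact Set.subset_univ _
  let P : PrimeSpectrum R := ⟨p, hp.1.1⟩
  let Q : PrimeSpectrum R := ⟨q, hq.1.1⟩
  have hsp : ∀ {F : Set (PrimeSpectrum R)}, IsClosed F → ∀ {x y : PrimeSpectrum R}, x ∈ F → x ≤ y → y ∈ F :=
    fun hF _ _ hx hxy => ((le_iff_specializes _ _).1 hxy).mem_closed hF hx
  have hnot : ∀ {F : Set (PrimeSpectrum R)}, IsClosed F → F ≠ Set.univ → ¬ (P ∈ F ∧ Q ∈ F) := fun hF hne hh =>
    hne (Set.eq_univ_of_forall fun x => (hor x.asIdeal x.2).elim (fun h => hsp hF hh.1 (show P ≤ x from h))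
      fun h => hsp hF hh.2 (show Q ≤ x from h))
  have hP : P ∈ F₁ ∪ F₂ := hu ▸ Set.mem_univ _
  have hQ : Q ∈ F₁ ∪ F₂ := hu ▸ Set.mem_univ _
  intro x hx
  have hx' : p ⊔ q ≤ x.asIdeal := hx
  have hxp : P ≤ x := show p ≤ x.asIdeal from le_sup_left.trans hx'
  have hxq : Q ≤ x := show q ≤ x.asIdeal from le_sup_right.trans hx'
  rw [← hi]
  rcases hP with hP | hP <;> rcases hQ with hQ | hQ
  · exact absurd ⟨hP, hQ⟩ (hnot h₁ n₁)
  · exact ⟨hsp h₁ hP hxp, hsp h₂ hQ hxq⟩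
  · exact ⟨hsp h₁ hQ hxq, hsp h₂ hP hxp⟩
  · exact absurd ⟨hP, hQ⟩ (hnot h₂ n₂)

end Groth.Agent.H4Conn
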